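import Groth.Agent.FlatMor.PC.Flat
import Groth.Agent.DRing.RelTorDescent
import Groth.Agent.DRing.RelPCBaseChange
import Groth.Agent.DRing.TensorAmp
import Groth.Agent.DRing.FlatBCModule
import Mathlib.RingTheory.Flat.FaithfullyFlat.Basic

/-!
# Finite tor dimension of algebras: composition, base change, descent, locality; perfect ring maps
-/

set_option autoImplicit false
universe u

open CategoryTheory CategoryTheory.Limits DerivedCategory
open scoped TensorProduct

attribute [local instance] HasDerivedCategory.standard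

namespace Groth.Agent.FlatMor.PC

open Groth.Agent.DRing Groth.Agent.DRing.PC

section Basic

variable {A : Type u} [CommRing A]

lemma hasTorDimLE_mono {d e : ℕ} (h : d ≤ e) {M : Type u} [AddCommGroup M] [Module A M]
    (hM : DRing.HasTorDimLE A d M) : DRing.HasTorDimLE A e M :=
  fun N _ _ p hp => hM N p (by omega)

lemma hasTorDimLE_congr {d : ℕ} {M N : Type u} [AddCommGroup M] [Module A M] [AddCommGroup N]
    [Module A N] (e : M ≃ₗ[A] N) (h : DRing.HasTorDimLE A d M) : DRing.HasTorDimLE A d N :=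
  (TorBalance.hasTorDimLE_iff d N).2 (TorAmp.torAmp_of_iso
    ((singleFunctor (ModuleCat.{u} A) 0).mapIso e.toModuleIso) ((TorBalance.hasTorDimLE_iff d M).1 h))

lemma hasTorDimLE_of_flat (d : ℕ) (M : Type u) [AddCommGroup M] [Module A M] [Module.Flat A M] :
    DRing.HasTorDimLE A d M :=
  hasTorDimLE_mono (Nat.zero_le d) ((TorBalance.hasTorDimLE_zero_iff M).2 inferInstance)

lemma hasTorDimLE_prod {d : ℕ} {M N : Type u} [AddCommGroup M] [Module A M] [AddCommGroup N]
    [Module A N] (hM : DRing.HasTorDimLE A d M) (hN : DRing.HasTorDimLE A d N) :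
    DRing.HasTorDimLE A d (M × N) := by
  rw [TorBalance.hasTorDimLE_iff] at hM hN ⊢
  obtain ⟨T, hT, h1, h2, h3⟩ := exists_triangle_of_surjective (LinearMap.snd A M N)
    LinearMap.snd_surjective
  let e : LinearMap.ker (LinearMap.snd A M N) ≃ₗ[A] M :=
    { toFun := fun x => x.1.1
      invFun := fun m => ⟨(m, 0), rfl⟩
      left_inv := fun x => Subtype.ext (Prod.ext rfl (x.2 : x.1.2 = 0).symm)
      right_inv := fun _ => rfl
      map_add' := fun _ _ => rfl
      map_smul' := fun _ _ => rfl }
  have hk : DRing.HasTorAmplitudeIn A (-(d : ℤ)) 0 T.obj₁ := by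
    rw [h1]
    exact TorAmp.torAmp_of_iso ((singleFunctor (ModuleCat.{u} A) 0).mapIso e.toModuleIso).symm hM
  rw [← h3] at hN
  rw [← h2]
  exact (TorAmp.torAmp_of_triangle hT _ _).2.1 hk hN

lemma hasTorDimLE_pi {d : ℕ} : ∀ {r : ℕ} (M : Fin r → Type u) [∀ i, AddCommGroup (M i)]
    [∀ i, Module A (M i)], (∀ i, DRing.HasTorDimLE A d (M i)) → DRing.HasTorDimLE A d (∀ i, M i)
  | 0, M, _, _, _ => by
    have : Module.Flat A (∀ i, M i) := Module.Flat.of_free
    exact hasTorDimLE_of_flat d _
  | r + 1, M, _, _, h =>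
    hasTorDimLE_congr
      ({ Fin.consEquiv M with
          map_add' := fun x y => funext <| Fin.cases rfl fun _ => rfl
          map_smul' := fun c x => funext <| Fin.cases rfl fun _ => rfl } :
        (M 0 × ∀ i, M (Fin.succ i)) ≃ₗ[A] ∀ i, M i)
      (hasTorDimLE_prod (h 0) (hasTorDimLE_pi (fun i => M i.succ) fun i => h i.succ))

end Basic

section Alg

variable {A B C : Type u} [CommRing A] [CommRing B] [CommRing C] [Algebra A B] [Algebra B C]
  [Algebra A C] [IsScalarTower A B C]

lemma nonempty_restrict_inD :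
    Nonempty ((DRing.restrictD (algebraMap A B)).obj (Dual.inD B C) ≅ Dual.inD A C) := by
  obtain ⟨i⟩ := RelPC.nonempty_restrictInD (algebraMap A B) (ModuleCat.of B C)
  let e : ((ModuleCat.restrictScalars (algebraMap A B)).obj (ModuleCat.of B C) : ModuleCat.{u} A) ≃ₗ[A] C :=
    { toFun := fun x => x
      invFun := fun x => x
      left_inv := fun _ => rfl
      right_inv := fun _ => rfl
      map_add' := fun _ _ => rfl
      map_smul' := fun r x => IsScalarTower.algebraMap_smul B r (show C from x) }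
  exact ⟨i ≪≫ (singleFunctor (ModuleCat.{u} A) 0).mapIso e.toModuleIso⟩

theorem hasTorDimLE_trans {a b : ℕ} (h1 : DRing.HasTorDimLE A a B) (h2 : DRing.HasTorDimLE B b C) :
    DRing.HasTorDimLE A (a + b) C := by
  rw [TorBalance.hasTorDimLE_iff] at h1 h2 ⊢
  obtain ⟨i⟩ := nonempty_restrict_inD (A := A) (B := B) (C := C)
  refine TorAmp.torAmp_of_iso i ?_
  exact TorAmp.torAmp_mono (TensorAmp.torAmp_restrict_algebra h2 h1) (by push_cast; omega) (by omega)

theorem finTorDim_trans (h1 : DRing.HasFiniteTorDim A B) (h2 : DRing.HasFiniteTorDim B C) :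
    DRing.HasFiniteTorDim A C := by
  obtain ⟨a, ha⟩ := h1
  obtain ⟨b, hb⟩ := h2
  exact ⟨a + b, hasTorDimLE_trans ha hb⟩

/-- Tor dimension over the base is insensitive to a faithfully flat extension of the algebra. -/
theorem hasTorDimLE_of_faithfullyFlat [Module.FaithfullyFlat B C] {d : ℕ}
    (h : DRing.HasTorDimLE A d C) : DRing.HasTorDimLE A d B := by
  rw [TorBalance.hasTorDimLE_iff] at h ⊢
  let ψ := algebraMap B C
  have := LTensor.hasLBaseChange ψ
  obtain ⟨i⟩ := nonempty_restrict_inD (A := A) (B := B) (C := B)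
  refine TorAmp.torAmp_of_iso i ((RelTor.torAmp_restrict_baseChange_iff (algebraMap A B) ψ
    Descent.flat_algebraMap Descent.detects_faithfullyFlat (algebraMap A C)
    (IsScalarTower.algebraMap_eq A B C).symm _ _ _).2 ?_)
  obtain ⟨j⟩ := RelPC.nonempty_baseChangeModule (A := B) (B := C) B
  obtain ⟨k⟩ := nonempty_restrict_inD (A := A) (B := C) (C := C)
  refine TorAmp.torAmp_of_iso (((DRing.restrictD (algebraMap A C)).mapIso (j ≪≫
    (singleFunctor (ModuleCat.{u} C) 0).mapIso
      (TensorProduct.AlgebraTensorModule.rid B C C).toModuleIso)) ≪≫ k).symm h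

end Alg

section BC

variable {A A' : Type u} [CommRing A] [CommRing A'] [iA : Algebra A A']

lemma hasTorDimLE_tensor [Module.Flat A A'] {d : ℕ} {M : Type u} [AddCommGroup M] [Module A M]
    (h : DRing.HasTorDimLE A d M) : DRing.HasTorDimLE A' d (A' ⊗[A] M) := by
  rw [TorBalance.hasTorDimLE_iff] at h ⊢
  have key : ∀ (φ : A →+* A') (i : Algebra A A'), φ.Flat → i = φ.toAlgebra →
      letI := i; DRing.HasTorAmplitudeIn A' (-(d : ℤ)) 0 (Dual.inD A' (A' ⊗[A] M)) := by
    intro φ i hφ hi
    subst hi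
    exact Perfect.torAmpModule_baseChange φ hφ h
  exact key (algebraMap A A') iA Descent.flat_algebraMap (Algebra.algebra_ext _ _ fun _ => rfl)

lemma hasTorDimLE_of_tensor [Module.FaithfullyFlat A A'] {d : ℕ} {M : Type u} [AddCommGroup M]
    [Module A M] (h : DRing.HasTorDimLE A' d (A' ⊗[A] M)) : DRing.HasTorDimLE A d M := by
  rw [TorBalance.hasTorDimLE_iff] at h ⊢
  have key : ∀ (φ : A →+* A') (i : Algebra A A'), φ.Flat → PCDescent.Detects (fun _ : Unit => φ) →
      i = φ.toAlgebra →
      (letI := i; DRing.HasTorAmplitudeIn A' (-(d : ℤ)) 0 (Dual.inD A' (A' ⊗[A] M))) →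
      DRing.HasTorAmplitudeIn A (-(d : ℤ)) 0 (Dual.inD A M) := by
    intro φ i hφ hd hi h
    subst hi
    obtain ⟨j⟩ := Perfect.nonempty_extendScalarsIso φ M
    refine TorAmp.torAmp_of_iso (TorBalance.inDS0 M)
      (Descent.torAmp_of_detects (fun _ => hφ) hd _ _ _ fun _ => ?_)
    exact TorAmp.torAmp_of_iso (DerivedCategory.Q.mapIso
      ((HomologicalComplex.singleMapHomologicalComplex (ModuleCat.extendScalars.{u, u, u} φ)
        (ComplexShape.up ℤ) 0).app (ModuleCat.of A M) ≪≫
        (HomologicalComplex.single (ModuleCat.{u} A') (ComplexShape.up ℤ) 0).mapIso j) ≪≫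
      ((singleFunctorIsoCompQ (ModuleCat.{u} A') 0).app _).symm).symm h
  exact key (algebraMap A A') iA Descent.flat_algebraMap Descent.detects_faithfullyFlat
    (Algebra.algebra_ext _ _ fun _ => rfl) h

variable {B B' : Type u} [CommRing B] [CommRing B'] [Algebra A B] [Algebra A' B'] [Algebra B B']
  [Algebra A B'] [IsScalarTower A A' B'] [IsScalarTower A B B'] [Algebra.IsPushout A A' B B']

theorem finTorDim_baseChange [Module.Flat A A'] (h : DRing.HasFiniteTorDim A B) :
    DRing.HasFiniteTorDim A' B' := by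
  obtain ⟨d, hd⟩ := h
  have hb : IsBaseChange A' (IsScalarTower.toAlgHom A B B').toLinearMap := Algebra.IsPushout.out
  exact ⟨d, hasTorDimLE_congr hb.equiv (hasTorDimLE_tensor hd)⟩

theorem finTorDim_descend [Module.FaithfullyFlat A A'] (h : DRing.HasFiniteTorDim A' B') :
    DRing.HasFiniteTorDim A B := by
  obtain ⟨d, hd⟩ := h
  have hb : IsBaseChange A' (IsScalarTower.toAlgHom A B B').toLinearMap := Algebra.IsPushout.out
  exact ⟨d, hasTorDimLE_of_tensor (hasTorDimLE_congr hb.equiv.symm hd)⟩

theorem perfectHom_baseChange [Module.Flat A A'] (h : MoreMor.IsPerfectHom A B) :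
    MoreMor.IsPerfectHom A' B' :=
  ⟨pcHom_baseChange h.1, finTorDim_baseChange h.2⟩

theorem perfectHom_descend [Module.FaithfullyFlat A A'] (h : MoreMor.IsPerfectHom A' B') :
    MoreMor.IsPerfectHom A B :=
  ⟨pcHom_descend h.1, finTorDim_descend h.2⟩

end BC

section Perfect

variable {A B : Type u} [CommRing A] [CommRing B] [Algebra A B]

theorem finTorDim_of_flat [Module.Flat A B] : DRing.HasFiniteTorDim A B :=
  ⟨0, hasTorDimLE_of_flat 0 B⟩

theorem perfectHom_of_flat_fp [Module.Flat A B] [Algebra.FinitePresentation A B] :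
    MoreMor.IsPerfectHom A B :=
  ⟨pcHom_of_flat_fp, finTorDim_of_flat⟩

theorem perfectHom_comp {C : Type u} [CommRing C] [Algebra B C] [Algebra A C] [IsScalarTower A B C]
    (h1 : MoreMor.IsPerfectHom A B) (h2 : MoreMor.IsPerfectHom B C) : MoreMor.IsPerfectHom A C :=
  ⟨pcHom_comp h1.1 h2.1, finTorDim_trans h1.2 h2.2⟩

theorem perfectHom_away (a : A) (S : Type u) [CommRing S] [Algebra A S] [IsLocalization.Away a S] :
    MoreMor.IsPerfectHom A S := by
  have := IsLocalization.flat S (Submonoid.powers a)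
  exact ⟨pcHom_away a S, finTorDim_of_flat⟩

theorem perfectHom_source_away (h : MoreMor.IsPerfectHom A B) (f : B) (S : Type u) [CommRing S]
    [Algebra B S] [Algebra A S] [IsScalarTower A B S] [IsLocalization.Away f S] :
    MoreMor.IsPerfectHom A S :=
  perfectHom_comp h (perfectHom_away f S)

lemma faithfullyFlat_pi_away {r : ℕ} (f : Fin r → B) (hf : Ideal.span (Set.range f) = ⊤) :
    Module.FaithfullyFlat B (∀ i, Localization.Away (f i)) := by
  have : ∀ i, Module.Flat B (Localization.Away (f i)) := fun i =>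
    IsLocalization.flat _ (Submonoid.powers (f i))
  have : Module.Flat B (∀ i, Localization.Away (f i)) :=
    Module.Flat.of_linearEquiv (DirectSum.linearEquivFunOnFintype B (Fin r) _).symm
  refine Module.FaithfullyFlat.of_comap_surjective fun p => ?_
  obtain ⟨i, hi⟩ : ∃ i, f i ∉ p.asIdeal := by
    by_contra! h
    exact p.2.ne_top (top_le_iff.1 (hf ▸ Ideal.span_le.2 (Set.range_subset_iff.2 h)))
  have hp : p ∈ Set.range (PrimeSpectrum.comap (algebraMap B (Localization.Away (f i)))) := by
    rw [PrimeSpectrum.localization_away_comap_range _ (f i)]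
    exact hi
  obtain ⟨q, rfl⟩ := hp
  refine ⟨PrimeSpectrum.comap (Pi.evalRingHom (fun i => Localization.Away (f i)) i) q, ?_⟩
  rfl

theorem hasTorDimLE_of_span {d r : ℕ} (f : Fin r → B) (hf : Ideal.span (Set.range f) = ⊤)
    (h : ∀ i, DRing.HasTorDimLE A d (Localization.Away (f i))) : DRing.HasTorDimLE A d B := by
  have := faithfullyFlat_pi_away f hf
  exact hasTorDimLE_of_faithfullyFlat (C := ∀ i, Localization.Away (f i)) (hasTorDimLE_pi _ h)

theorem finTorDim_of_span {r : ℕ} (f : Fin r → B) (hf : Ideal.span (Set.range f) = ⊤)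
    (h : ∀ i, DRing.HasFiniteTorDim A (Localization.Away (f i))) : DRing.HasFiniteTorDim A B := by
  choose d hd using h
  exact ⟨Finset.univ.sup d, hasTorDimLE_of_span f hf fun i =>
    hasTorDimLE_mono (Finset.le_sup (Finset.mem_univ i)) (hd i)⟩

theorem perfectHom_of_span {r : ℕ} (f : Fin r → B) (hf : Ideal.span (Set.range f) = ⊤)
    (h : ∀ i, MoreMor.IsPerfectHom A (Localization.Away (f i))) : MoreMor.IsPerfectHom A B :=
  ⟨pcHom_of_span f hf fun i => (h i).1, finTorDim_of_span f hf fun i => (h i).2⟩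

theorem perfectHom_of_algEquiv {C : Type u} [CommRing C] [Algebra A C] (e : B ≃ₐ[A] C)
    (h : MoreMor.IsPerfectHom A B) : MoreMor.IsPerfectHom A C :=
  ⟨pcHom_of_algEquiv e h.1, h.2.imp fun _ hd => hasTorDimLE_congr e.toLinearEquiv hd⟩

end Perfect

end Groth.Agent.FlatMor.PC
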