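import Groth.Agent.FlatMor.PC.Local
import Groth.Agent.FlatMor.PC.TorDim

/-!
# Pseudo-coherent and perfect morphisms of schemes are affine-local
-/

set_option autoImplicit false
universe u

open CategoryTheory Limits AlgebraicGeometry

attribute [local instance] HasDerivedCategory.standard

namespace Groth.Agent.FlatMor.PC

theorem localHom_pc : LocalHom.{u} (fun A B _ _ _ => MoreMor.IsPseudoCoherentHom A B) where
  comp _ _ _ _ _ _ _ _ _ _ h1 h2 := pcHom_comp h1 h2
  away _ _ a S _ _ _ := pcHom_away a S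
  span _ _ _ _ _ _ f hf h := pcHom_of_span f hf h
  baseChange _ _ _ _ _ _ _ _ _ _ _ _ _ _ _ _ _ h := pcHom_baseChange h
  descend _ _ _ _ _ _ _ _ _ _ _ _ _ _ _ _ _ h := pcHom_descend h
  iso _ _ _ _ _ _ _ _ e h := pcHom_of_algEquiv e h

theorem localHom_perfect : LocalHom.{u} (fun A B _ _ _ => MoreMor.IsPerfectHom A B) where
  comp _ _ _ _ _ _ _ _ _ _ h1 h2 := perfectHom_comp h1 h2
  away _ _ a S _ _ _ := perfectHom_away a S
  span _ _ _ _ _ _ f hf h := perfectHom_of_span f hf h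
  baseChange _ _ _ _ _ _ _ _ _ _ _ _ _ _ _ _ _ h := perfectHom_baseChange h
  descend _ _ _ _ _ _ _ _ _ _ _ _ _ _ _ _ _ h := perfectHom_descend h
  iso _ _ _ _ _ _ _ _ e h := perfectHom_of_algEquiv e h

theorem pcMor_eq {X Y : Scheme.{u}} (f : X ⟶ Y) :
    MoreMor.IsPseudoCoherentMor f ↔ Mor (fun A B _ _ _ => MoreMor.IsPseudoCoherentHom A B) f :=
  Iff.rfl

theorem perfectMor_eq {X Y : Scheme.{u}} (f : X ⟶ Y) :
    MoreMor.IsPerfectMor f ↔ Mor (fun A B _ _ _ => MoreMor.IsPerfectHom A B) f :=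
  Iff.rfl

end Groth.Agent.FlatMor.PC
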