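import Groth.Prelude.Def_LCI2
import Groth.Agent.KosCone.Basic
import Groth.Agent.DRing.BaseChangeAmp
import Groth.Agent.FlatMor.PC.TorDim
import Mathlib.RingTheory.Localization.Ideal

/-!
# Koszul-regular quotients and lci ring maps are perfect
-/

set_option autoImplicit false
universe u

open CategoryTheory CategoryTheory.Limits DerivedCategory
open scoped TensorProduct

attribute [local instance] HasDerivedCategory.standard

namespace Groth.Agent.FlatMor.PC

open Groth.Agent.DRing Groth.Agent.DRing.PC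

variable {A : Type u} [CommRing A]

lemma perfectModule_of_finiteFree (M : Type u) [AddCommGroup M] [Module A M] [Module.Finite A M]
    [Module.Free A M] : DRing.IsPerfectModule A M :=
  (Perfect.perfect_iff _).2 ⟨pcModule'_of_finiteFree, _, _,
    (TorBalance.hasTorDimLE_iff 0 M).1 (hasTorDimLE_of_flat 0 M)⟩

theorem perfect_koszul : ∀ l : List A, DRing.IsPerfect A (DRing.toD (Koszul.koszul A l))
  | [] => Perfect.perfect_of_iso
      ((singleFunctorIsoCompQ (ModuleCat.{u} A) 0).app (ModuleCat.of A A))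
      (perfectModule_of_finiteFree A)
  | f :: l =>
    (Perfect.perfect_two_of_three
      (mappingCone_triangle_distinguished (f • 𝟙 (Koszul.koszul A l)))).1
        (perfect_koszul l) (perfect_koszul l)

theorem perfectModule_quotient (l : List A) (hl : LCI.IsKoszulRegularSeq A l) :
    DRing.IsPerfectModule A (A ⧸ Ideal.ofList l) := by
  let K : Dual.D A := DRing.toD (Koszul.koszul A l)
  have hv : ∀ i, i ≠ 0 → Subsingleton (Dual.HD A K i) := fun i hi =>
    (DBasic.subsingleton_HD_toD_iff _ i).2 (hl i hi)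
  have : K.IsLE 0 := (DBasic.isLE_iff_subsingleton K 0).2 fun i hi => hv i (by omega)
  have : K.IsGE 0 := (DerivedCategory.isGE_iff K 0).2 fun i hi =>
    (DBasic.subsingleton_HD_iff_isZero K i).1 (hv i (by omega))
  obtain ⟨M, ⟨e⟩⟩ := exists_iso_singleFunctor_obj_of_isGE_of_isLE K 0
  obtain ⟨π, hπ, hker⟩ := KosCone.Basic.exists_toH0 l
  let e1 : (Koszul.koszul A l).homology 0 ≃ₗ[A] M :=
    ((DBasic.hIso (Koszul.koszul A l) 0).symm ≪≫ (DBasic.HF 0).mapIso e ≪≫ inDIso (A := A) M).toLinearEquiv
  let e2 : (A ⧸ Ideal.ofList l) ≃ₗ[A] M :=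
    ((Submodule.quotEquivOfEq _ _ hker.symm).trans (LinearMap.quotKerEquivOfSurjective π hπ)).trans e1
  exact Perfect.perfect_of_iso (e ≪≫ (singleFunctor (ModuleCat.{u} A) 0).mapIso e2.symm.toModuleIso)
    (perfect_koszul l)

variable {B : Type u} [CommRing B] [Algebra A B]

theorem perfectHom_of_perfectModule (hs : Function.Surjective (algebraMap A B))
    (h : DRing.IsPerfectModule A B) : MoreMor.IsPerfectHom A B := by
  obtain ⟨hpc, a, b, hab⟩ := (Perfect.perfect_iff _).1 h
  refine ⟨(pcHom_iff_of_surjective hs).2 hpc, (-a).toNat, ?_⟩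
  rw [TorBalance.hasTorDimLE_iff]
  obtain ⟨P, hb, hp, ⟨e⟩⟩ := Trunc.exists_projRep (Dual.inD A B) 0
    (fun i hi => subsingleton_HD_inD A B i (by omega))
  rw [TorAmp.hasTorAmp_iff (TorAmp.isKFlat_of_projective hb hp) e] at hab ⊢
  intro M i hi
  rcases hi with hi | hi
  · exact hab M i (Or.inl (by omega))
  · exact ((DRing.tensorCx P M).exactAt_iff i).2
      (ShortComplex.exact_of_isZero_X₂ _ ((MonoidalCategory.tensorRight M).map_isZero (hb i hi)))

theorem perfectHom_step (hs : Function.Surjective (algebraMap A B)) (g : A) (A' B' : Type u)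
    [CommRing A'] [CommRing B'] [Algebra A A'] [Algebra B B'] [Algebra A B'] [IsScalarTower A B B']
    [IsLocalization.Away g A'] [IsLocalization.Away (algebraMap A B g) B'] (l : List A')
    (hl : LCI.IsKoszulRegularSeq A' l)
    (hmap : (RingHom.ker (algebraMap A B)).map (algebraMap A A') = Ideal.span {x | x ∈ l}) :
    MoreMor.IsPerfectHom A B' := by
  let ψ : A' →+* B' := IsLocalization.Away.map A' B' (algebraMap A B) g
  have hψc : ∀ x, ψ (algebraMap A A' x) = algebraMap B B' (algebraMap A B x) := fun x =>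
    IsLocalization.map_eq _ x
  let := ψ.toAlgebra
  have : IsScalarTower A A' B' :=
    IsScalarTower.of_algebraMap_eq fun x => by
      rw [IsScalarTower.algebraMap_apply A B B']
      exact (hψc x).symm
  have hψ : Function.Surjective ψ := fun z => by
    obtain ⟨b, ⟨-, k, rfl⟩, rfl⟩ := IsLocalization.exists_mk'_eq (Submonoid.powers (algebraMap A B g)) z
    obtain ⟨a, rfl⟩ := hs b
    refine ⟨IsLocalization.mk' A' a (⟨g ^ k, k, rfl⟩ : Submonoid.powers g), ?_⟩
    refine (IsLocalization.map_mk' (S := A') (Q := B') _ a _).trans ?_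
    congr 1
    exact Subtype.ext (map_pow _ _ _)
  have hk : RingHom.ker ψ = Ideal.ofList l := by
    rw [show Ideal.ofList l = (RingHom.ker (algebraMap A B)).map (algebraMap A A') from hmap.symm]
    exact IsLocalization.ker_map B' (algebraMap A B) (Submonoid.map_powers (algebraMap A B) g)
  let e : (A' ⧸ Ideal.ofList l) ≃ₗ[A'] B' :=
    (Submodule.quotEquivOfEq _ _ hk.symm).trans
      (LinearMap.quotKerEquivOfSurjective (Algebra.linearMap A' B') hψ)
  exact perfectHom_comp (perfectHom_away g A')
    (perfectHom_of_perfectModule hψ (Perfect.perfect_of_iso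
      ((singleFunctor (ModuleCat.{u} A') 0).mapIso e.toModuleIso)
      (perfectModule_quotient l hl)))

theorem perfectHom_of_isKoszulRegularIdeal (hs : Function.Surjective (algebraMap A B))
    (h : LCI.IsKoszulRegularIdeal (RingHom.ker (algebraMap A B))) : MoreMor.IsPerfectHom A B := by
  classical
  let φ := algebraMap A B
  let G : Set B := φ '' {g : A | ∃ l : List (Localization.Away g),
    LCI.IsKoszulRegularSeq (Localization.Away g) l ∧
      (RingHom.ker φ).map (algebraMap A (Localization.Away g)) = Ideal.span {x | x ∈ l}}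
  have hG : Ideal.span G = ⊤ := by
    by_contra hne
    obtain ⟨q, hq, hle⟩ := Ideal.exists_le_maximal _ hne
    obtain ⟨g, hg, hl⟩ := h ⟨q.comap φ, inferInstance⟩ fun x hx => by
      rw [Ideal.mem_comap, RingHom.mem_ker.1 hx]; exact q.zero_mem
    exact hg (hle (Ideal.subset_span ⟨g, hl, rfl⟩))
  obtain ⟨s, hs', hspan⟩ := (Ideal.span_eq_top_iff_finite G).1 hG
  refine perfectHom_of_span (fun i => (s.equivFin.symm i : B)) ?_ fun i => ?_
  · rw [← hspan]
    congr 1
    ext x
    exact ⟨fun ⟨i, hi⟩ => hi ▸ (s.equivFin.symm i).2, fun hx => ⟨s.equivFin ⟨x, hx⟩, by simp⟩⟩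
  obtain ⟨g, ⟨l, hl, hmap⟩, hgi⟩ := hs' (s.equivFin.symm i).2
  rw [← hgi]
  exact perfectHom_step hs g (Localization.Away g) (Localization.Away (φ g)) l hl hmap

theorem perfectHom_of_isLCI (h : LCI.IsLCI A B) : MoreMor.IsPerfectHom A B := by
  obtain ⟨-, n, f, hf, hk⟩ := h
  let := f.toRingHom.toAlgebra
  have : IsScalarTower A (MvPolynomial (Fin n) A) B :=
    IsScalarTower.of_algebraMap_eq fun x => (f.commutes x).symm
  exact perfectHom_comp (A := A) (B := MvPolynomial (Fin n) A) perfectHom_of_flat_fp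
    (perfectHom_of_isKoszulRegularIdeal hf hk)

end Groth.Agent.FlatMor.PC
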