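import Groth.Agent.FlatMor.PC.Cancel
import Mathlib.RingTheory.Spectrum.Prime.FreeLocus
import Mathlib.RingTheory.Flat.Localization
import Mathlib.RingTheory.LocalRing.Module
import Mathlib.Algebra.Module.LocalizedModule.Exact
import Mathlib.Algebra.Module.LocalizedModule.IsLocalization

/-!
# Finite tor dimension from localisations, for pseudo-coherent modules and ring maps

If `M` is pseudo-coherent and each localisation has finite tor dimension, then the locus where the
`n`-th syzygy is locally free is open, so by quasi-compactness `M` has finite tor dimension.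
-/

set_option autoImplicit false
universe u

open CategoryTheory CategoryTheory.Limits DerivedCategory
open scoped TensorProduct

attribute [local instance] HasDerivedCategory.standard

namespace Groth.Agent.FlatMor.PC

open Groth.Agent.DRing Groth.Agent.DRing.PC

section Module

variable {P : Type u} [CommRing P]

lemma hasTorDimLE_of_torAmp {d : ℕ} {b : ℤ} {M : Type u} [AddCommGroup M] [Module P M]
    (h : DRing.HasTorAmplitudeIn P (-(d : ℤ)) b (Dual.inD P M)) : DRing.HasTorDimLE P d M := by
  rw [TorBalance.hasTorDimLE_iff]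
  obtain ⟨Q, hb, hp, ⟨e⟩⟩ := Trunc.exists_projRep (Dual.inD P M) 0
    (fun i hi => subsingleton_HD_inD P M i (by omega))
  rw [TorAmp.hasTorAmp_iff (TorAmp.isKFlat_of_projective hb hp) e] at h ⊢
  intro N i hi
  rcases hi with hi | hi
  · exact h N i (Or.inl hi)
  · exact ((DRing.tensorCx Q N).exactAt_iff i).2
      (ShortComplex.exact_of_isZero_X₂ _ ((MonoidalCategory.tensorRight N).map_isZero (hb i hi)))

/-- Dimension shift. -/
lemma hasTorDimLE_ker_iff {F M : Type u} [AddCommGroup F] [Module P F] [Module.Flat P F]
    [AddCommGroup M] [Module P M] (f : F →ₗ[P] M) (hf : Function.Surjective f) (d : ℕ) :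
    DRing.HasTorDimLE P d (LinearMap.ker f) ↔ DRing.HasTorDimLE P (d + 1) M := by
  obtain ⟨T, hT, h1, h2, h3⟩ := exists_triangle_of_surjective f hf
  have hF : DRing.HasTorAmplitudeIn P 0 0 T.obj₂ := by
    rw [h2]
    simpa using (TorBalance.hasTorDimLE_iff 0 F).1 (hasTorDimLE_of_flat 0 F)
  have t := TorAmp.torAmp_of_triangle hT (-((d + 1 : ℕ) : ℤ)) 0
  constructor
  · intro h
    rw [TorBalance.hasTorDimLE_iff, ← h1] at h
    rw [TorBalance.hasTorDimLE_iff, ← h3]
    exact t.1 (TorAmp.torAmp_mono h (by push_cast; omega) (by omega))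
      (TorAmp.torAmp_mono hF (by push_cast; omega) (by omega))
  · intro h
    rw [TorBalance.hasTorDimLE_iff, ← h3] at h
    refine hasTorDimLE_of_torAmp (b := 1) ?_
    rw [← h1]
    have := t.2.2 (TorAmp.torAmp_mono hF (by push_cast; omega) (by omega)) h
    exact TorAmp.torAmp_mono this (by push_cast; omega) (by omega)

variable {M : Type u} [AddCommGroup M] [Module P M]

lemma hasTorDimLE_localized_ker_iff {r : ℕ} (f : (Fin r → P) →ₗ[P] M) (hf : Function.Surjective f)
    (S : Submonoid P) (d : ℕ) :
    DRing.HasTorDimLE P d (LocalizedModule S (LinearMap.ker f)) ↔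
      DRing.HasTorDimLE P (d + 1) (LocalizedModule S M) := by
  let i := IsLocalizedModule.map S (LocalizedModule.mkLinearMap S (LinearMap.ker f))
    (LocalizedModule.mkLinearMap S (Fin r → P)) (LinearMap.ker f).subtype
  let g := IsLocalizedModule.map S (LocalizedModule.mkLinearMap S (Fin r → P))
    (LocalizedModule.mkLinearMap S M) f
  have hi : Function.Injective i :=
    IsLocalizedModule.map_injective S _ _ _ (Submodule.subtype_injective _)
  have hg : Function.Surjective g := IsLocalizedModule.map_surjective S _ _ _ hf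
  have hex : Function.Exact i g :=
    IsLocalizedModule.map_exact S _ _ _ _ _ (LinearMap.exact_subtype_ker_map f)
  let e : LocalizedModule S (LinearMap.ker f) ≃ₗ[P] LinearMap.ker g :=
    (LinearEquiv.ofInjective i hi).trans (LinearEquiv.ofEq _ _ (LinearMap.exact_iff.1 hex).symm)
  have : Module.Flat (Localization S) (LocalizedModule S (Fin r → P)) :=
    Module.Flat.of_isLocalizedModule (Localization S) S (LocalizedModule.mkLinearMap S (Fin r → P))
  have : Module.Flat P (Localization S) := IsLocalization.flat (Localization S) S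
  have : Module.Flat P (LocalizedModule S (Fin r → P)) :=
    Module.Flat.trans P (Localization S) _
  rw [← hasTorDimLE_ker_iff g hg]
  exact ⟨hasTorDimLE_congr e, hasTorDimLE_congr e.symm⟩

lemma finite_of_pc (h : DRing.IsPseudoCoherentModule' P M) : Module.Finite P M :=
  pcModule_zero_iff.1 ((pc'_iff _).1 h 0)

lemma pc_ker (h : DRing.IsPseudoCoherentModule' P M) {r : ℕ} (f : (Fin r → P) →ₗ[P] M)
    (hf : Function.Surjective f) : DRing.IsPseudoCoherentModule' P (LinearMap.ker f) :=
  (pc'_iff _).2 fun m => (pcModule_step_iff f hf m).1 ((pc'_iff _).1 h (m - 1))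

lemma isOpen_torDimLocus (d : ℕ) : ∀ (M : Type u) [AddCommGroup M] [Module P M],
    DRing.IsPseudoCoherentModule' P M →
      IsOpen {p : PrimeSpectrum P | DRing.HasTorDimLE P d (LocalizedModule p.asIdeal.primeCompl M)} := by
  induction d with
  | zero =>
    intro M _ _ h
    have : Module.FinitePresentation P M := pcModule_negOne_iff.1 ((pc'_iff _).1 h (-1))
    convert Module.isOpen_freeLocus (R := P) (M := M) using 1
    ext p
    rw [Set.mem_setOf_eq, TorBalance.hasTorDimLE_zero_iff, Module.mem_freeLocus,
      ← Module.flat_iff_of_isLocalization (Localization.AtPrime p.asIdeal) p.asIdeal.primeCompl]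
    exact ⟨fun _ => Module.free_of_flat_of_isLocalRing, fun _ => inferInstance⟩
  | succ d ih =>
    intro M _ _ h
    have := finite_of_pc h
    obtain ⟨r, f, hf⟩ := Module.Finite.exists_fin' P M
    convert ih _ (pc_ker h f hf) using 1
    ext p
    exact (hasTorDimLE_localized_ker_iff f hf _ d).symm

lemma hasTorDimLE_of_localized (d : ℕ) : ∀ (M : Type u) [AddCommGroup M] [Module P M],
    DRing.IsPseudoCoherentModule' P M →
      (∀ p : PrimeSpectrum P, DRing.HasTorDimLE P d (LocalizedModule p.asIdeal.primeCompl M)) →
        DRing.HasTorDimLE P d M := by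
  induction d with
  | zero =>
    intro M _ _ _ h
    rw [TorBalance.hasTorDimLE_zero_iff]
    exact Module.flat_of_localized_maximal _ fun p _ =>
      (TorBalance.hasTorDimLE_zero_iff _).1 (h ⟨p, inferInstance⟩)
  | succ d ih =>
    intro M _ _ h hp
    have := finite_of_pc h
    obtain ⟨r, f, hf⟩ := Module.Finite.exists_fin' P M
    refine (hasTorDimLE_ker_iff f hf d).1 (ih _ (pc_ker h f hf) fun p => ?_)
    exact (hasTorDimLE_localized_ker_iff f hf _ d).2 (hp p)

theorem finTorDim_of_localized (hM : DRing.IsPseudoCoherentModule' P M)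
    (h : ∀ p : PrimeSpectrum P, DRing.HasFiniteTorDim P (LocalizedModule p.asIdeal.primeCompl M)) :
    DRing.HasFiniteTorDim P M := by
  let U : ℕ → Set (PrimeSpectrum P) := fun d =>
    {p | DRing.HasTorDimLE P d (LocalizedModule p.asIdeal.primeCompl M)}
  obtain ⟨t, ht⟩ := isCompact_univ.elim_finite_subcover U (fun d => isOpen_torDimLocus d M hM)
    fun p _ => Set.mem_iUnion.2 (h p)
  refine ⟨t.sup id, hasTorDimLE_of_localized _ M hM fun p => ?_⟩
  obtain ⟨d, hd, hp⟩ := Set.mem_iUnion₂.1 (ht (Set.mem_univ p))
  exact hasTorDimLE_mono (Finset.le_sup (f := id) hd) hp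

end Module

section Hom

variable {A B C : Type u} [CommRing A] [CommRing B] [CommRing C] [Algebra A B]

attribute [local instance] MvPolynomial.algebraMvPolynomial

/-- Finite tor dimension over the base passes to a polynomial ring mapping to the algebra. -/
theorem finTorDim_polynomial {n : ℕ} [Algebra A C] [Algebra (MvPolynomial (Fin n) A) C]
    [IsScalarTower A (MvPolynomial (Fin n) A) C] (h : DRing.HasFiniteTorDim A C) :
    DRing.HasFiniteTorDim (MvPolynomial (Fin n) A) C := by
  let π : MvPolynomial (Fin n) C →ₐ[C] C :=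
    MvPolynomial.aeval fun i => algebraMap (MvPolynomial (Fin n) A) C (MvPolynomial.X i)
  let := π.toRingHom.toAlgebra
  have : IsScalarTower C (MvPolynomial (Fin n) C) C :=
    IsScalarTower.of_algebraMap_eq fun x => (π.commutes x).symm
  have : IsScalarTower (MvPolynomial (Fin n) A) (MvPolynomial (Fin n) C) C := by
    refine IsScalarTower.of_algebraMap_eq' ?_
    refine MvPolynomial.ringHom_ext (fun r => ?_) fun i => ?_
    · simp [π, RingHom.algebraMap_toAlgebra,
        IsScalarTower.algebraMap_apply A (MvPolynomial (Fin n) A) C]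
    · simp [π, RingHom.algebraMap_toAlgebra]
  have : Algebra.Smooth C (MvPolynomial (Fin n) C) := ⟨inferInstance, inferInstance⟩
  have h2 : MoreMor.IsPerfectHom (MvPolynomial (Fin n) C) C :=
    perfectHom_of_comp_smooth (A := C) perfectHom_of_flat_fp
  exact finTorDim_trans
    (finTorDim_baseChange (A := A) (A' := MvPolynomial (Fin n) A) (B := C)
      (B' := MvPolynomial (Fin n) C) h) h2.2

theorem perfectHom_of_localizations (hpc : MoreMor.IsPseudoCoherentHom A B)
    (h : ∀ q : PrimeSpectrum B, DRing.HasFiniteTorDim A (Localization.AtPrime q.asIdeal)) :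
    MoreMor.IsPerfectHom A B := by
  have := finiteType_of_pcHom hpc
  obtain ⟨n, φ, hφ⟩ := Algebra.FiniteType.iff_quotient_mvPolynomial''.1 ‹Algebra.FiniteType A B›
  let := φ.toRingHom.toAlgebra
  have : IsScalarTower A (MvPolynomial (Fin n) A) B :=
    IsScalarTower.of_algebraMap_eq fun x => (φ.commutes x).symm
  refine ⟨hpc, finTorDim_trans (B := MvPolynomial (Fin n) A) finTorDim_of_flat ?_⟩
  refine finTorDim_of_localized ((pcHom_iff_pcModule hφ).1 hpc) fun p => ?_
  by_cases hk : RingHom.ker (algebraMap (MvPolynomial (Fin n) A) B) ≤ p.asIdeal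
  · let q : Ideal B := p.asIdeal.map (algebraMap (MvPolynomial (Fin n) A) B)
    have hq : q.IsPrime := Ideal.map_isPrime_of_surjective hφ hk
    have hqp : q.comap (algebraMap (MvPolynomial (Fin n) A) B) = p.asIdeal := by
      change (Ideal.map _ p.asIdeal).comap _ = _
      refine (Ideal.comap_map_of_surjective (algebraMap (MvPolynomial (Fin n) A) B) hφ p.asIdeal).trans ?_
      rw [← RingHom.ker_eq_comap_bot, sup_eq_left]
      exact hk
    have hS : Algebra.algebraMapSubmonoid B p.asIdeal.primeCompl = q.primeCompl := by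
      ext b
      constructor
      · rintro ⟨x, hx, rfl⟩ hb
        exact hx (hqp ▸ hb)
      · intro hb
        obtain ⟨x, rfl⟩ := hφ b
        exact ⟨x, fun hx => hb (Ideal.mem_map_of_mem _ hx), rfl⟩
    have : IsLocalization (Algebra.algebraMapSubmonoid B p.asIdeal.primeCompl)
        (Localization.AtPrime q) := by rw [hS]; infer_instance
    have : IsLocalizedModule p.asIdeal.primeCompl
        (IsScalarTower.toAlgHom (MvPolynomial (Fin n) A) B (Localization.AtPrime q)).toLinearMap :=
      isLocalizedModule_iff_isLocalization.2 inferInstance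
    obtain ⟨d, hd⟩ := finTorDim_polynomial (n := n) (h ⟨q, hq⟩)
    exact ⟨d, hasTorDimLE_congr (IsLocalizedModule.iso p.asIdeal.primeCompl
      (IsScalarTower.toAlgHom (MvPolynomial (Fin n) A) B (Localization.AtPrime q)).toLinearMap).symm hd⟩
  · obtain ⟨x, hx, hxp⟩ := SetLike.not_le_iff_exists.1 hk
    have : Subsingleton (LocalizedModule p.asIdeal.primeCompl B) :=
      LocalizedModule.subsingleton_iff.2 fun b => ⟨x, hxp, by
        rw [Algebra.smul_def, RingHom.mem_ker.1 hx, zero_mul]⟩
    exact ⟨0, hasTorDimLE_of_flat 0 _⟩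

end Hom

end Groth.Agent.FlatMor.PC

namespace Groth.Agent.FlatMor.PC

/-- An algebra over a localisation of `A` with finite tor dimension over `A`. -/
theorem finTorDim_of_localization_base {A A' C : Type u} [CommRing A] [CommRing A'] [CommRing C]
    [Algebra A A'] [Algebra A C] [Algebra A' C] [IsScalarTower A A' C] (M : Submonoid A)
    [IsLocalization M A'] (h : DRing.HasFiniteTorDim A C) : DRing.HasFiniteTorDim A' C := by
  have : Module.Flat A A' := IsLocalization.flat A' M
  have : IsLocalization (Algebra.algebraMapSubmonoid C M) C := by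
    refine IsLocalization.self ?_
    rintro _ ⟨m, hm, rfl⟩
    rw [IsUnit.mem_submonoid_iff, IsScalarTower.algebraMap_apply A A' C]
    exact (IsLocalization.map_units A' (⟨m, hm⟩ : M)).map _
  have : Algebra.IsPushout A A' C C := (Algebra.isPushout_of_isLocalization M A' C C).symm
  exact finTorDim_baseChange (A := A) (A' := A') (B := C) (B' := C) h

end Groth.Agent.FlatMor.PC
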