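import Groth.Agent.FlatMor.PC.Hom
import Groth.Agent.FlatMor.FlatLemmas
import Mathlib.RingTheory.Flat.Equalizer
import Mathlib.RingTheory.Flat.Stability

/-!
# Flat finitely presented ring maps are pseudo-coherent; localisation
-/

set_option autoImplicit false
universe u

open CategoryTheory CategoryTheory.Limits DerivedCategory
open scoped TensorProduct

attribute [local instance] HasDerivedCategory.standard

namespace Groth.Agent.FlatMor.PC

open Groth.Agent.DRing Groth.Agent.DRing.PC

section Tensor

variable (A0 A P0 P : Type u) [CommRing A0] [CommRing A] [CommRing P0] [CommRing P] [Algebra A0 A]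
  [Algebra A0 P0] [Algebra A0 P] [Algebra A P] [Algebra P0 P] [IsScalarTower A0 A P]
  [IsScalarTower A0 P0 P] [Algebra.IsPushout A0 A P0 P]

include A in
lemma lTensor_injective_of_flat_quotient {N F M : Type u} [AddCommGroup N] [AddCommGroup F]
    [AddCommGroup M] [Module P0 N] [Module P0 F] [Module P0 M] [Module A0 N] [Module A0 F] [Module A0 M]
    [IsScalarTower A0 P0 N] [IsScalarTower A0 P0 F] [IsScalarTower A0 P0 M] [Module.Flat A0 M]
    (g : N →ₗ[P0] F) (hg : Function.Injective g) (f : F →ₗ[P0] M) (hf : Function.Surjective f)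
    (H : Function.Exact g f) : Function.Injective (g.lTensor P) := by
  have h0 : Function.Injective ((g.restrictScalars A0).lTensor A) :=
    LinearMap.lTensor_injective_of_exact_of_flat (f.restrictScalars A0) hf (g.restrictScalars A0) hg H A
  let eN := Algebra.IsPushout.cancelBaseChange A0 A P0 P N
  let eF := Algebra.IsPushout.cancelBaseChange A0 A P0 P F
  have hcomm : ∀ z, g.lTensor P (eN.symm z) = eF.symm ((g.restrictScalars A0).lTensor A z) := by
    intro z
    induction z using TensorProduct.induction_on with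
    | zero => simp only [map_zero]
    | tmul a x => simp [eN, eF]
    | add x y hx hy => simp only [map_add, hx, hy]
  intro x y hxy
  obtain ⟨x, rfl⟩ := eN.symm.surjective x
  obtain ⟨y, rfl⟩ := eN.symm.surjective y
  rw [hcomm, hcomm] at hxy
  rw [h0 (eF.symm.injective hxy)]

include A in
lemma pcModule_tensor_of_flat [IsNoetherianRing P0] [Module.Flat A0 P0] (k : ℕ) :
    ∀ (m : ℤ), (1 - k : ℤ) ≤ m → ∀ (M : Type u) [AddCommGroup M] [Module P0 M] [Module A0 M]
      [IsScalarTower A0 P0 M] [Module.Finite P0 M] [Module.Flat A0 M],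
      DRing.IsPseudoCoherentModule P m (P ⊗[P0] M) := by
  induction k with
  | zero => exact fun m hm M _ _ _ _ _ _ => pcModule_of_pos P (P ⊗[P0] M) (by omega)
  | succ k ih =>
    intro m hm M _ _ _ _ _ _
    obtain ⟨r, f, hf⟩ := Module.Finite.exists_fin' P0 M
    have : Module.Flat A0 (Fin r → P0) :=
      Module.Flat.trans A0 P0 (Fin r → P0)
    have hN : Module.Flat A0 (LinearMap.ker f) := by
      have := FlatLemmas.flat_ker (f.restrictScalars A0) hf
      exact Module.Flat.of_linearEquiv
        (show LinearMap.ker f ≃ₗ[A0] LinearMap.ker (f.restrictScalars A0) from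
          { toFun := fun x => ⟨x.1, x.2⟩
            invFun := fun x => ⟨x.1, x.2⟩
            left_inv := fun _ => rfl
            right_inv := fun _ => rfl
            map_add' := fun _ _ => rfl
            map_smul' := fun _ _ => rfl })
    have h := ih (m + 1) (by push_cast at hm; omega) (LinearMap.ker f)
    have hf' : Function.Surjective (f.baseChange P) := LinearMap.lTensor_surjective P hf
    have hex := lTensor_exact P (LinearMap.exact_subtype_ker_map f) hf
    have hinj := lTensor_injective_of_flat_quotient A0 A P0 P (LinearMap.ker f).subtype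
      (LinearMap.ker f).subtype_injective f hf (LinearMap.exact_subtype_ker_map f)
    let g := (LinearMap.ker f).subtype.baseChange P
    have hr : LinearMap.range g = LinearMap.ker (f.baseChange P) :=
      SetLike.ext fun x => ((hex x).symm : x ∈ Set.range g ↔ f.baseChange P x = 0)
    have h2 := (pcModule_step_iff (f.baseChange P) hf' (m + 1)).2
      (pcModule_congr ((LinearEquiv.ofInjective g hinj).trans (LinearEquiv.ofEq _ _ hr)) h)
    rwa [add_sub_cancel_right] at h2

end Tensor

section Flat

variable {A B : Type u} [CommRing A] [CommRing B] [Algebra A B]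

theorem pcHom_of_algEquiv {C : Type u} [CommRing C] [Algebra A C] (e : B ≃ₐ[A] C)
    (h : MoreMor.IsPseudoCoherentHom A B) : MoreMor.IsPseudoCoherentHom A C := by
  let := e.toAlgHom.toRingHom.toAlgebra
  have : IsScalarTower A B C := IsScalarTower.of_algebraMap_eq fun x => (e.commutes x).symm
  refine pcHom_comp h ((pcHom_iff_of_surjective e.surjective).2 ?_)
  let l : B ≃ₗ[B] C := LinearEquiv.ofBijective (Algebra.linearMap B C) e.bijective
  have : Module.Finite B C := Module.Finite.equiv l
  have : Module.Free B C := Module.Free.of_equiv l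
  exact pcModule'_of_finiteFree

theorem pcHom_of_flat_fp [Module.Flat A B] [Algebra.FinitePresentation A B] :
    MoreMor.IsPseudoCoherentHom A B := by
  obtain ⟨A₀, B₀, _, _, hA₀, _, _, ⟨e⟩⟩ := GrpdLib.FppfSourceDescent.exists_flat_model A B
  have : Algebra.FiniteType ℤ A₀ := A₀.fg_iff_finiteType.1 hA₀
  have : IsNoetherianRing A₀ := Algebra.FiniteType.isNoetherianRing ℤ A₀
  refine pcHom_of_algEquiv e.symm ?_
  let := (Algebra.TensorProduct.includeRight : B₀ →ₐ[A₀] A ⊗[A₀] B₀).toRingHom.toAlgebra
  have : IsScalarTower A₀ B₀ (A ⊗[A₀] B₀) := IsScalarTower.of_algebraMap_eq fun x =>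
    ((Algebra.TensorProduct.includeRight : B₀ →ₐ[A₀] A ⊗[A₀] B₀).commutes x).symm
  have : Algebra.IsPushout A₀ A B₀ (A ⊗[A₀] B₀) := TensorProduct.isPushout
  obtain ⟨n, _, _, t1, t2, hφ, hφ', ⟨e'⟩⟩ :=
    exists_squarePresentation (A := A₀) (A' := A) (B := B₀) (B' := A ⊗[A₀] B₀)
  rw [pcHom_iff_pcModule hφ']
  have : Module.Finite (MvPolynomial (Fin n) A₀) B₀ :=
    Module.Finite.of_surjective (Algebra.linearMap _ _) hφ
  refine (pc'_iff _).2 fun m => pcModule_congr e' ?_
  let := (MvPolynomial.algebraMvPolynomial : Algebra (MvPolynomial (Fin n) A₀) (MvPolynomial (Fin n) A))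
  exact pcModule_tensor_of_flat A₀ A (MvPolynomial (Fin n) A₀) (MvPolynomial (Fin n) A)
    (1 - m).toNat m (by omega) B₀

theorem pcHom_away (a : A) (S : Type u) [CommRing S] [Algebra A S] [IsLocalization.Away a S] :
    MoreMor.IsPseudoCoherentHom A S := by
  have := IsLocalization.flat S (Submonoid.powers a)
  have := IsLocalization.Away.finitePresentation (R := A) (S := S) a
  exact pcHom_of_flat_fp

theorem pcHom_source_away (h : MoreMor.IsPseudoCoherentHom A B) (f : B) (S : Type u) [CommRing S]
    [Algebra B S] [Algebra A S] [IsScalarTower A B S] [IsLocalization.Away f S] :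
    MoreMor.IsPseudoCoherentHom A S :=
  pcHom_comp h (pcHom_away f S)

omit [Algebra A B] in
lemma nonempty_inD_extCx (φ : A →+* B) : Nonempty (Dual.inD B B ≅
    DRing.toD ((LTensor.extCx φ).obj (SingleTensor.S0 (ModuleCat.of A A)))) := by
  obtain ⟨j⟩ := Perfect.nonempty_extendScalarsIso φ A
  let := φ.toAlgebra
  let j' : (ModuleCat.extendScalars.{u, u, u} φ).obj (ModuleCat.of A A) ≅ ModuleCat.of B B :=
    j ≪≫ (TensorProduct.AlgebraTensorModule.rid A B B).toModuleIso
  exact ⟨((singleFunctorIsoCompQ (ModuleCat.{u} B) 0).app _) ≪≫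
    (DerivedCategory.Q.mapIso ((HomologicalComplex.singleMapHomologicalComplex
      (ModuleCat.extendScalars.{u, u, u} φ) (ComplexShape.up ℤ) 0).app (ModuleCat.of A A) ≪≫
      (HomologicalComplex.single (ModuleCat.{u} B) (ComplexShape.up ℤ) 0).mapIso j')).symm⟩

/-- Pseudo-coherence is local on the source. -/
theorem pcHom_of_span {r : ℕ} (f : Fin r → B) (hf : Ideal.span (Set.range f) = ⊤)
    (h : ∀ i, MoreMor.IsPseudoCoherentHom A (Localization.Away (f i))) :
    MoreMor.IsPseudoCoherentHom A B := by
  have : Algebra.FiniteType A B := by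
    refine RingHom.finiteType_algebraMap.1 (RingHom.finiteType_ofLocalizationSpanTarget _
      (Set.range f) hf fun g => ?_)
    obtain ⟨-, i, rfl⟩ := g
    rw [← IsScalarTower.algebraMap_eq]
    exact RingHom.finiteType_algebraMap.2 (finiteType_of_pcHom (h i))
  refine pcHom_of_rel fun m => ?_
  have h1 := (RelPC.isRel_iff_away (R := A) (SingleTensor.S0 (ModuleCat.of B B)) m f hf).2 fun i => ?_
  · obtain ⟨n, α, hα, h'⟩ := h1
    exact ⟨n, α, hα, pc_of_iso ((DRing.restrictD _).mapIso (TorBalance.inDS0 B)) h'⟩
  obtain ⟨n, α, hα, h'⟩ := rel_of_pcHom (h i) m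
  obtain ⟨j⟩ := nonempty_inD_extCx (algebraMap B (Localization.Away (f i)))
  exact ⟨n, α, hα, pc_of_iso ((DRing.restrictD _).mapIso j) h'⟩

end Flat

end Groth.Agent.FlatMor.PC
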