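import Groth.Agent.FlatMor.PC.Koszul
import Groth.Agent.KReg44.Smooth
import Groth.Agent.KReg44.Weakly
import Mathlib.RingTheory.Smooth.Flat
import Mathlib.RingTheory.RingHom.StandardSmooth
import Mathlib.RingTheory.Smooth.StandardSmoothOfFree
import Mathlib.RingTheory.Smooth.Locus

/-!
# Cancellation of perfect ring maps by smooth ones; perfect presentations
-/

set_option autoImplicit false
universe u

open scoped TensorProduct

attribute [local instance] HasDerivedCategory.standard

namespace Groth.Agent.FlatMor.PC

variable {A B C : Type u} [CommRing A] [CommRing B] [CommRing C] [Algebra A B] [Algebra B C]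
  [Algebra A C] [IsScalarTower A B C]

lemma isKoszulRegularIdeal_bot : LCI.IsKoszulRegularIdeal (⊥ : Ideal A) := by
  intro p _
  refine ⟨1, p.2.one_notMem, [], KReg44.isKoszulRegularSeq_of_isWeaklyRegular 0 [] rfl
    (RingTheory.Sequence.IsWeaklyRegular.nil _ _), ?_⟩
  rw [Ideal.map_bot]
  simp

theorem perfectHom_of_comp_standardSmooth [Algebra.IsStandardSmooth A B]
    (h : MoreMor.IsPerfectHom A C) : MoreMor.IsPerfectHom B C := by
  let : Algebra C (B ⊗[A] C) := Algebra.TensorProduct.rightAlgebra
  have : IsScalarTower A C (B ⊗[A] C) :=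
    IsScalarTower.of_algebraMap_eq (R := A) (S := C) (A := B ⊗[A] C) fun x =>
      ((Algebra.TensorProduct.includeRight (R := A) (A := B) (B := C)).commutes x).symm
  have : Algebra.IsPushout A B C (B ⊗[A] C) := TensorProduct.isPushout
  let π : B ⊗[A] C →ₐ[B] C :=
    Algebra.TensorProduct.lift (Algebra.ofId B C) (AlgHom.id A C) fun _ _ => mul_comm _ _
  let := π.toRingHom.toAlgebra
  have : IsScalarTower B (B ⊗[A] C) C := IsScalarTower.of_algebraMap_eq fun b => (π.commutes b).symm
  have hs : Function.Surjective (algebraMap (B ⊗[A] C) C) := fun c =>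
    ⟨1 ⊗ₜ c, by change π (1 ⊗ₜ c) = c; simp [π]⟩
  have hid : π.toRingHom.comp (algebraMap C (B ⊗[A] C)) = RingHom.id C :=
    RingHom.ext fun c => by change π (1 ⊗ₜ c) = c; simp [π]
  have hstd : (algebraMap C (B ⊗[A] C)).IsStandardSmooth := by
    rw [RingHom.isStandardSmooth_algebraMap]
    exact Algebra.IsStandardSmooth.of_algEquiv
      (Algebra.TensorProduct.commRight A C B : C ⊗[A] B ≃ₐ[C] B ⊗[A] C)
  refine perfectHom_comp (perfectHom_baseChange (A := A) (A' := B) (B := C) h)
    (perfectHom_of_isKoszulRegularIdeal hs ?_)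
  refine (KReg44.isKoszulRegularIdeal_ker_iff (algebraMap C (B ⊗[A] C)) hstd π.toRingHom ?_).1 ?_
  · rw [hid]; exact fun c => ⟨c, rfl⟩
  · rw [hid, (RingHom.injective_iff_ker_eq_bot _).1 Function.injective_id]
    exact isKoszulRegularIdeal_bot

theorem perfectHom_of_comp_smooth [Algebra.Smooth A B] (h : MoreMor.IsPerfectHom A C) :
    MoreMor.IsPerfectHom B C := by
  classical
  let s : Set B := {g | Algebra.IsStandardSmooth A (Localization.Away g)}
  have hstd : ∀ g ∈ s, Algebra.IsStandardSmooth A (Localization.Away g) := fun _ h => h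
  have hs : Ideal.span s = ⊤ := by
    by_contra hne
    obtain ⟨q, hq, hle⟩ := Ideal.exists_le_maximal _ hne
    obtain ⟨g, hg, hgs⟩ := Algebra.IsSmoothAt.exists_notMem_isStandardSmooth A q
    exact hg (hle (Ideal.subset_span hgs))
  obtain ⟨t, hts, ht⟩ := (Ideal.span_eq_top_iff_finite s).1 hs
  let g : Fin t.card → B := fun i => t.equivFin.symm i
  have hg : Ideal.span (Set.range g) = ⊤ := by
    rw [← ht]
    congr 1
    ext x
    exact ⟨fun ⟨i, hi⟩ => hi ▸ (t.equivFin.symm i).2, fun hx => ⟨t.equivFin ⟨x, hx⟩, by simp [g]⟩⟩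
  refine perfectHom_of_span (fun i => algebraMap B C (g i)) ?_ fun i => ?_
  · rw [show Set.range (fun i => algebraMap B C (g i)) = algebraMap B C '' Set.range g from
      Set.range_comp (algebraMap B C) g, ← Ideal.map_span, hg, Ideal.map_top]
  have := hstd (g i) (hts (t.equivFin.symm i).2)
  let C' := Localization.Away (algebraMap B C (g i))
  let ψ : Localization.Away (g i) →+* C' := Localization.awayMap (algebraMap B C) (g i)
  let := ψ.toAlgebra
  have t1 : IsScalarTower B (Localization.Away (g i)) C' := IsScalarTower.of_algebraMap_eq fun x => by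
    rw [IsScalarTower.algebraMap_apply B C C']
    simp [ψ, C', RingHom.algebraMap_toAlgebra, Localization.awayMap, IsLocalization.Away.map]
  have t2 : IsScalarTower A (Localization.Away (g i)) C' := IsScalarTower.of_algebraMap_eq fun x => by
    rw [IsScalarTower.algebraMap_apply A B (Localization.Away (g i)),
      ← IsScalarTower.algebraMap_apply B (Localization.Away (g i)) C',
      ← IsScalarTower.algebraMap_apply A B C']
  exact perfectHom_comp (perfectHom_away (g i) (Localization.Away (g i)))
    (perfectHom_of_comp_standardSmooth (A := A)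
      (perfectHom_source_away h (algebraMap B C (g i)) C'))

theorem perfectModule_of_perfectHom {P B : Type u} [CommRing P] [CommRing B] [Algebra P B]
    [Module.Finite P B] (h : MoreMor.IsPerfectHom P B) : DRing.IsPerfectModule P B := by
  obtain ⟨hpc, d, hd⟩ := h
  exact (Groth.Agent.DRing.Perfect.perfect_iff _).2
    ⟨pcHom_iff_of_finite.1 hpc, _, _, (Groth.Agent.DRing.TorBalance.hasTorDimLE_iff d B).1 hd⟩

theorem perfectHom_iff_presentation {A B : Type u} [CommRing A] [CommRing B] [Algebra A B] :
    MoreMor.IsPerfectHom A B ↔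
      ∃ (n : ℕ) (φ : MvPolynomial (Fin n) A →ₐ[A] B), Function.Surjective φ ∧
        letI := φ.toRingHom.toAlgebra
        DRing.IsPerfectModule (MvPolynomial (Fin n) A) B := by
  constructor
  · intro h
    obtain ⟨n, φ, hφ, -⟩ := h.1
    refine ⟨n, φ, hφ, ?_⟩
    let := φ.toRingHom.toAlgebra
    have : IsScalarTower A (MvPolynomial (Fin n) A) B :=
      IsScalarTower.of_algebraMap_eq fun x => (φ.commutes x).symm
    have : Module.Finite (MvPolynomial (Fin n) A) B :=
      Module.Finite.of_surjective (Algebra.linearMap _ _) hφ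
    have : Algebra.Smooth A (MvPolynomial (Fin n) A) := ⟨inferInstance, inferInstance⟩
    exact perfectModule_of_perfectHom (perfectHom_of_comp_smooth (A := A) h)
  · rintro ⟨n, φ, hφ, h⟩
    let := φ.toRingHom.toAlgebra
    have : IsScalarTower A (MvPolynomial (Fin n) A) B :=
      IsScalarTower.of_algebraMap_eq fun x => (φ.commutes x).symm
    exact perfectHom_comp (A := A) (B := MvPolynomial (Fin n) A) perfectHom_of_flat_fp
      (perfectHom_of_perfectModule hφ h)

end Groth.Agent.FlatMor.PC
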