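import Groth.Agent.FlatMor.PC.Flat
import Groth.Agent.FlatOpen.Descend

/-!
# Flat relatively finitely presented modules are relatively pseudo-coherent
-/

set_option autoImplicit false
universe u

open CategoryTheory CategoryTheory.Limits DerivedCategory
open scoped TensorProduct

attribute [local instance] HasDerivedCategory.standard

namespace Groth.Agent.FlatMor.PC

open Groth.Agent.DRing Groth.Agent.DRing.PC

open Groth.Agent in
/-- Flatness descends to a finitely generated subalgebra. -/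
theorem exists_flat_model {R₁ A : Type u} [CommRing R₁] [CommRing A] [Algebra R₁ A]
    {B₁ : Type u} [CommRing B₁] [Algebra R₁ B₁] [Algebra.FinitePresentation R₁ B₁]
    (N₁ : Type u) [AddCommGroup N₁] [Module B₁ N₁] [Module R₁ N₁] [IsScalarTower R₁ B₁ N₁]
    [Module.FinitePresentation B₁ N₁] [Module.Flat A (A ⊗[R₁] N₁)] :
    ∃ R' : Subalgebra R₁ A, R'.FG ∧ Module.Flat R' (R' ⊗[R₁] N₁) := by
  let ι : Type u := {S : Subalgebra R₁ A // S.FG}
  let G : ι → Type u := fun i => i.1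
  let g : ∀ i j : ι, i ≤ j → G i →+* G j := fun i j h => (Subalgebra.inclusion h).toRingHom
  have hcolim : FlatCA.IsDirectedColimitRing G g A := by
    refine ⟨⟨fun i j => ⟨⟨i.1 ⊔ j.1, i.2.sup j.2⟩, (le_sup_left : i.1 ≤ _), (le_sup_right : j.1 ≤ _)⟩⟩,
      ⟨⟨⊥, Subalgebra.fg_bot⟩⟩, fun i => RingHom.ext fun x => rfl, fun i j k _ _ => RingHom.ext fun x => rfl,
      fun i j h => RingHom.ext fun x => rfl,
      fun a => ⟨⟨Algebra.adjoin R₁ {a}, ⟨{a}, by rw [Finset.coe_singleton]⟩⟩, ⟨a, Algebra.self_mem_adjoin_singleton R₁ a⟩, rfl⟩,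
      fun i x hx => ⟨i, le_rfl, ?_⟩⟩
    exact Subtype.ext hx
  obtain ⟨i, hi⟩ := FlatOpen.exists_stage_flat (A₀ := R₁) G g (fun i j h => RingHom.ext fun r => rfl) A hcolim
    (B₀ := B₁) N₁
  exact ⟨i.1, i.2, hi⟩

/-- A module presented over a ring with the coefficients of its relations in the image. -/
theorem exists_quotient_model {P₀ P : Type u} [CommRing P₀] [CommRing P] [Algebra P₀ P] {r : ℕ}
    (K : Submodule P (Fin r → P)) (s : Finset (Fin r → P)) (hs : Submodule.span P (s : Set (Fin r → P)) = K)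
    (hlift : ∀ v ∈ s, ∀ i, v i ∈ (algebraMap P₀ P).range) :
    ∃ K₀ : Submodule P₀ (Fin r → P₀), K₀.FG ∧
      Nonempty ((P ⊗[P₀] ((Fin r → P₀) ⧸ K₀)) ≃ₗ[P] ((Fin r → P) ⧸ K)) := by
  classical
  choose w hw using hlift
  let u : {v // v ∈ s} → (Fin r → P₀) := fun v i => w v.1 v.2 i
  let K₀ : Submodule P₀ (Fin r → P₀) := Submodule.span P₀ (Set.range u)
  refine ⟨K₀, Submodule.fg_span (Set.finite_range u), ?_⟩
  let m : (Fin r → P₀) →ₗ[P₀] (Fin r → P) := (Algebra.linearMap P₀ P).compLeft (Fin r)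
  have hm : ∀ v : {v // v ∈ s}, m (u v) = v.1 := fun v => funext fun i => hw v.1 v.2 i
  have hK : K₀ ≤ LinearMap.ker ((K.mkQ.restrictScalars P₀).comp m) := by
    refine Submodule.span_le.mpr ?_
    rintro _ ⟨v, rfl⟩
    show Submodule.Quotient.mk (m (u v)) = 0
    rw [hm, Submodule.Quotient.mk_eq_zero, ← hs]
    exact Submodule.subset_span v.2
  let g : ((Fin r → P₀) ⧸ K₀) →ₗ[P₀] ((Fin r → P) ⧸ K) := K₀.liftQ _ hK
  let fwd : (P ⊗[P₀] ((Fin r → P₀) ⧸ K₀)) →ₗ[P] ((Fin r → P) ⧸ K) := g.liftBaseChange P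
  let b₀ : Fin r → (P ⊗[P₀] ((Fin r → P₀) ⧸ K₀)) := fun i => 1 ⊗ₜ Submodule.Quotient.mk (Pi.single i 1)
  let back₀ : (Fin r → P) →ₗ[P] (P ⊗[P₀] ((Fin r → P₀) ⧸ K₀)) := (Pi.basisFun P (Fin r)).constr P b₀
  have hback : ∀ z : Fin r → P₀, back₀ (m z) = 1 ⊗ₜ Submodule.Quotient.mk z := fun z => by
    have h1 : m z = ∑ i, algebraMap P₀ P (z i) • Pi.basisFun P (Fin r) i := by
      funext j
      simp [m, Pi.basisFun_apply, Finset.sum_apply, Pi.single_apply, Algebra.algebraMap_eq_smul_one]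
    rw [h1, map_sum]
    simp only [map_smul, back₀, Module.Basis.constr_basis, b₀]
    conv_rhs => rw [← Finset.univ_sum_single z]
    rw [← Submodule.mkQ_apply, map_sum, TensorProduct.tmul_sum]
    refine Finset.sum_congr rfl fun i _ => ?_
    rw [algebraMap_smul, ← TensorProduct.tmul_smul, Submodule.mkQ_apply, ← Submodule.Quotient.mk_smul, ← Pi.single_smul, smul_eq_mul,
      mul_one]
  have hK' : K ≤ LinearMap.ker back₀ := by
    rw [← hs, Submodule.span_le]
    intro v hv
    show back₀ v = 0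
    refine (congrArg back₀ (hm ⟨v, hv⟩)).symm.trans ?_
    rw [hback, (Submodule.Quotient.mk_eq_zero K₀).mpr (Submodule.subset_span ⟨_, rfl⟩),
      TensorProduct.tmul_zero]
  let back : ((Fin r → P) ⧸ K) →ₗ[P] (P ⊗[P₀] ((Fin r → P₀) ⧸ K₀)) := K.liftQ back₀ hK'
  have hfb : ∀ z : Fin r → P₀, fwd (1 ⊗ₜ Submodule.Quotient.mk z) = Submodule.Quotient.mk (m z) := fun z => by
    show g.liftBaseChange P _ = _
    rw [LinearMap.liftBaseChange_tmul, one_smul]
    rfl
  refine ⟨LinearEquiv.ofLinear fwd back ?_ ?_⟩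
  · refine Submodule.linearMap_qext _ ((Pi.basisFun P (Fin r)).ext fun i => ?_)
    have h1 : Pi.basisFun P (Fin r) i = m (Pi.single i 1) := by
      funext j
      simp [m, Pi.basisFun_apply, Pi.single_apply]
    show fwd (back₀ (Pi.basisFun P (Fin r) i)) = Submodule.Quotient.mk _
    rw [h1, hback, hfb]
  · refine LinearMap.ext fun x => ?_
    show back (fwd x) = x
    induction x using TensorProduct.induction_on with
    | zero => simp
    | add x y hx hy => rw [map_add, map_add, hx, hy]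
    | tmul p q =>
      obtain ⟨z, rfl⟩ := Submodule.Quotient.mk_surjective _ q
      have h2 : p ⊗ₜ[P₀] (Submodule.Quotient.mk z : (Fin r → P₀) ⧸ K₀) = p • ((1 : P) ⊗ₜ[P₀] Submodule.Quotient.mk z) := by
        rw [TensorProduct.smul_tmul', smul_eq_mul, mul_one]
      rw [h2, map_smul, map_smul, hfb]
      exact congrArg (p • ·) (hback z)

/-- Pseudo-coherence of the extension of a flat finite model over a Noetherian ring. -/
theorem pcModule_of_flat_model (A₁ R' A P₁ P' P : Type u) [CommRing A₁] [CommRing R'] [CommRing A]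
    [CommRing P₁] [CommRing P'] [CommRing P] [Algebra A₁ R'] [Algebra A₁ P₁] [Algebra A₁ P'] [Algebra R' P']
    [Algebra P₁ P'] [Algebra R' A] [Algebra R' P] [Algebra A P] [Algebra P' P] [Algebra P₁ P]
    [IsScalarTower A₁ R' P'] [IsScalarTower A₁ P₁ P'] [IsScalarTower R' A P] [IsScalarTower R' P' P]
    [IsScalarTower P₁ P' P] [Algebra.IsPushout A₁ R' P₁ P'] [Algebra.IsPushout R' A P' P]
    [IsNoetherianRing P'] [Module.Flat R' P'] (N₁ : Type u) [AddCommGroup N₁] [Module P₁ N₁] [Module A₁ N₁]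
    [IsScalarTower A₁ P₁ N₁] [Module.Finite P₁ N₁] (hfl : Module.Flat R' (R' ⊗[A₁] N₁))
    {M : Type u} [AddCommGroup M] [Module P M] (η : (P ⊗[P₁] N₁) ≃ₗ[P] M) (m : ℤ) :
    DRing.IsPseudoCoherentModule P m M := by
  haveI := hfl
  haveI : Module.Flat R' (P' ⊗[P₁] N₁) :=
    Module.Flat.of_linearEquiv ((Algebra.IsPushout.cancelBaseChange A₁ R' P₁ P' N₁).restrictScalars R')
  exact pcModule_congr ((TensorProduct.AlgebraTensorModule.cancelBaseChange P₁ P' P P N₁).trans η)
    (pcModule_tensor_of_flat R' A P' P (1 - m).toNat m (by omega) (P' ⊗[P₁] N₁))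

set_option maxHeartbeats 1600000 in
set_option synthInstance.maxHeartbeats 200000 in
open MvPolynomial in
/-- A module over a polynomial ring which is finitely presented and flat over the coefficients is
pseudo-coherent. -/
theorem pcModule_of_flat_fp {A : Type u} [CommRing A] {n : ℕ} (M : Type u) [AddCommGroup M]
    [Module (MvPolynomial (Fin n) A) M] [Module A M] [IsScalarTower A (MvPolynomial (Fin n) A) M]
    [Module.Flat A M] [Module.FinitePresentation (MvPolynomial (Fin n) A) M] (m : ℤ) :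
    DRing.IsPseudoCoherentModule (MvPolynomial (Fin n) A) m M := by
  classical
  let P := MvPolynomial (Fin n) A
  obtain ⟨r, K, e, hK⟩ := Module.FinitePresentation.exists_fin P M
  obtain ⟨s, hs⟩ := hK
  let cs : Finset A := s.biUnion fun v => Finset.univ.biUnion fun i => (v i).support.image fun d => (v i).coeff d
  let A₁ : Subalgebra ℤ A := Algebra.adjoin ℤ (cs : Set A)
  haveI : Algebra.FiniteType ℤ A₁ := A₁.fg_iff_finiteType.1 (Subalgebra.fg_adjoin_finset cs)
  haveI : IsNoetherianRing A₁ := Algebra.FiniteType.isNoetherianRing ℤ A₁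
  let P₁ := MvPolynomial (Fin n) A₁
  letI : Algebra P₁ P := MvPolynomial.algebraMvPolynomial
  haveI : IsScalarTower A₁ P₁ P := IsScalarTower.of_algebraMap_eq fun x => by
    simp [P₁, P, MvPolynomial.algebraMap_eq, MvPolynomial.algebraMap_apply, RingHom.algebraMap_toAlgebra]
  have hlift : ∀ v ∈ s, ∀ i, v i ∈ (algebraMap P₁ P).range := fun v hv i => by
    refine (mem_range_map_iff_coeffs_subset (f := algebraMap A₁ A)).mpr fun c hc => ?_
    obtain ⟨d, hd, rfl⟩ := MvPolynomial.mem_coeffs_iff.mp hc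
    exact ⟨⟨(v i).coeff d, Algebra.subset_adjoin (Finset.mem_biUnion.mpr ⟨v, hv, Finset.mem_biUnion.mpr
      ⟨i, Finset.mem_univ i, Finset.mem_image.mpr ⟨d, hd, rfl⟩⟩⟩)⟩, rfl⟩
  obtain ⟨K₀, hK₀, ⟨e₀⟩⟩ := exists_quotient_model K s hs hlift
  let N₁ := (Fin r → P₁) ⧸ K₀
  haveI : Module.FinitePresentation P₁ N₁ := Module.finitePresentation_of_surjective K₀.mkQ
    (Submodule.mkQ_surjective _) (by rwa [Submodule.ker_mkQ])
  let ε : A ⊗[A₁] N₁ ≃ₗ[A] M :=
    ((Algebra.IsPushout.cancelBaseChange A₁ A P₁ P N₁).symm.restrictScalars A).trans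
      ((e₀.trans e.symm).restrictScalars A)
  haveI : Module.Flat A (A ⊗[A₁] N₁) := Module.Flat.of_linearEquiv ε
  obtain ⟨R', hR', hfl⟩ := exists_flat_model (R₁ := A₁) (A := A) (B₁ := P₁) N₁
  haveI : Algebra.FiniteType A₁ R' := R'.fg_iff_finiteType.1 hR'
  haveI : IsNoetherianRing R' := Algebra.FiniteType.isNoetherianRing A₁ R'
  let P' := MvPolynomial (Fin n) R'
  letI : Algebra P₁ P' := MvPolynomial.algebraMvPolynomial
  letI : Algebra P' P := MvPolynomial.algebraMvPolynomial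
  haveI : IsScalarTower P₁ P' P := IsScalarTower.of_algebraMap_eq fun x => by
    simp [P', P, P₁, RingHom.algebraMap_toAlgebra, MvPolynomial.map_map, ← IsScalarTower.algebraMap_eq]
  haveI : IsScalarTower A₁ P₁ P' := IsScalarTower.of_algebraMap_eq fun x => by
    simp [P₁, P', MvPolynomial.algebraMap_eq, MvPolynomial.algebraMap_apply, RingHom.algebraMap_toAlgebra]
  haveI : IsScalarTower R' P' P := IsScalarTower.of_algebraMap_eq fun x => by
    simp [P', P, MvPolynomial.algebraMap_eq, MvPolynomial.algebraMap_apply, RingHom.algebraMap_toAlgebra]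
  exact pcModule_of_flat_model A₁ R' A P₁ P' P N₁ hfl (e₀.trans e.symm) m

end Groth.Agent.FlatMor.PC
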