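import Groth.Prelude.Def_MoreMor
import Groth.Prelude.Def_DerCA
import Groth.Agent.DRing.RelPCLoc
import Groth.Agent.GrpdLib.FppfSourceDescent
import Groth.Agent.DRing.TorBalance
import Mathlib.RingTheory.Finiteness.Descent

/-!
# Pseudo-coherent ring maps

Independence of the presentation, composition, flat base change, faithfully flat descent,
locality, and flat finitely presented maps.
-/

set_option autoImplicit false
universe u

open CategoryTheory CategoryTheory.Limits DerivedCategory
open scoped TensorProduct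

attribute [local instance] HasDerivedCategory.standard

namespace Groth.Agent.FlatMor.PC

open Groth.Agent.DRing Groth.Agent.DRing.PC

section Pres

variable {A B P : Type u} [CommRing A] [CommRing B] [CommRing P]

lemma pc_restrict_inD_iff [Algebra P B] (M : Type u) [AddCommGroup M] [Module B M] [Module P M]
    [IsScalarTower P B M] (m : ℤ) :
    DRing.IsPseudoCoherent P m ((DRing.restrictD (algebraMap P B)).obj (Dual.inD B M)) ↔
      DRing.IsPseudoCoherentModule P m M := by
  let e : ((ModuleCat.restrictScalars (algebraMap P B)).obj (ModuleCat.of B M) : ModuleCat.{u} P) ≃ₗ[P] M :=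
    { toFun := fun x => x
      invFun := fun x => x
      left_inv := fun _ => rfl
      right_inv := fun _ => rfl
      map_add' := fun _ _ => rfl
      map_smul' := fun r x => IsScalarTower.algebraMap_smul B r (show M from x) }
  exact (RelPC.pcModule_restrict_iff (algebraMap P B) (ModuleCat.of B M) m).trans
    ⟨pcModule_congr e, pcModule_congr e.symm⟩

variable [Algebra A B]

lemma rel_of_pcHom (h : MoreMor.IsPseudoCoherentHom A B) :
    DerCA.IsRelPseudoCoherentModuleAll A B B := by
  obtain ⟨n, φ, hφ, h⟩ := h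
  intro m
  refine ⟨n, φ, hφ, ?_⟩
  let := φ.toRingHom.toAlgebra
  exact (pc_restrict_inD_iff B m).2 ((pc'_iff _).1 h m)

lemma finiteType_of_pcHom (h : MoreMor.IsPseudoCoherentHom A B) : Algebra.FiniteType A B := by
  obtain ⟨n, φ, hφ, -⟩ := h
  exact Algebra.FiniteType.of_surjective φ hφ

/-- Any presentation computes pseudo-coherence of a ring map. -/
lemma pcModule'_of_rel {n : ℕ} [Algebra (MvPolynomial (Fin n) A) B]
    [IsScalarTower A (MvPolynomial (Fin n) A) B]
    (hφ : Function.Surjective (algebraMap (MvPolynomial (Fin n) A) B))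
    (h : DerCA.IsRelPseudoCoherentModuleAll A B B) :
    DRing.IsPseudoCoherentModule' (MvPolynomial (Fin n) A) B :=
  (pc'_iff _).2 fun m => (pc_restrict_inD_iff B m).1
    ((RelPC.isRel_iff (IsScalarTower.toAlgHom A (MvPolynomial (Fin n) A) B) hφ _ _).1 (h m))

lemma pcHom_of_rel (h : DerCA.IsRelPseudoCoherentModuleAll A B B) :
    MoreMor.IsPseudoCoherentHom A B := by
  obtain ⟨n, φ, hφ, -⟩ := h 0
  let := φ.toRingHom.toAlgebra
  have : IsScalarTower A (MvPolynomial (Fin n) A) B :=
    IsScalarTower.of_algebraMap_eq fun x => (φ.commutes x).symm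
  exact ⟨n, φ, hφ, pcModule'_of_rel hφ h⟩

theorem pcHom_iff_rel :
    MoreMor.IsPseudoCoherentHom A B ↔ DerCA.IsRelPseudoCoherentModuleAll A B B :=
  ⟨rel_of_pcHom, pcHom_of_rel⟩

theorem pcHom_iff_pcModule {n : ℕ} [Algebra (MvPolynomial (Fin n) A) B]
    [IsScalarTower A (MvPolynomial (Fin n) A) B]
    (hφ : Function.Surjective (algebraMap (MvPolynomial (Fin n) A) B)) :
    MoreMor.IsPseudoCoherentHom A B ↔ DRing.IsPseudoCoherentModule' (MvPolynomial (Fin n) A) B := by
  refine ⟨fun h => pcModule'_of_rel hφ (rel_of_pcHom h), fun h => ?_⟩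
  refine pcHom_of_rel fun m => ⟨n, IsScalarTower.toAlgHom A _ B, hφ, ?_⟩
  exact (pc_restrict_inD_iff B m).2 ((pc'_iff _).1 h m)

/-- A finite module free presentation: surjective ring maps. -/
theorem pcHom_iff_of_surjective (hs : Function.Surjective (algebraMap A B)) :
    MoreMor.IsPseudoCoherentHom A B ↔ DRing.IsPseudoCoherentModule' A B := by
  let φ : MvPolynomial (Fin 0) A →ₐ[A] B := MvPolynomial.aeval fun i => i.elim0
  let := φ.toRingHom.toAlgebra
  have hC : ∀ x, algebraMap (MvPolynomial (Fin 0) A) B (MvPolynomial.C x) = algebraMap A B x :=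
    fun x => φ.commutes x
  have : IsScalarTower A (MvPolynomial (Fin 0) A) B :=
    IsScalarTower.of_algebraMap_eq fun x => (hC x).symm
  have hφ : Function.Surjective (algebraMap (MvPolynomial (Fin 0) A) B) := fun b => by
    obtain ⟨a, rfl⟩ := hs b
    exact ⟨MvPolynomial.C a, hC a⟩
  rw [pcHom_iff_pcModule hφ]
  have hg : RelPC.Good (algebraMap A (MvPolynomial (Fin 0) A)) :=
    RelPC.good_of_bijective _ ⟨MvPolynomial.C_injective _ _, MvPolynomial.C_surjective _⟩
  refine (pc'_iff _).trans (Iff.trans ?_ (pc'_iff _).symm)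
  refine forall_congr' fun m => (hg _ m).trans ?_
  exact pc_restrict_inD_iff B m

end Pres

section Comp

variable {R A B : Type u} [CommRing R] [CommRing A] [CommRing B] [Algebra R A] [Algebra A B]
  [Algebra R B] [IsScalarTower R A B]

theorem pcHom_comp (h1 : MoreMor.IsPseudoCoherentHom R A) (h2 : MoreMor.IsPseudoCoherentHom A B) :
    MoreMor.IsPseudoCoherentHom R B := by
  have := finiteType_of_pcHom h1
  have := finiteType_of_pcHom h2
  exact pcHom_of_rel fun m =>
    (RelPC.relPC_intermediate (rel_of_pcHom h1) _ m).1 (rel_of_pcHom h2 m)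

theorem pcHom_of_comp (h1 : MoreMor.IsPseudoCoherentHom R A) (h2 : MoreMor.IsPseudoCoherentHom R B) :
    MoreMor.IsPseudoCoherentHom A B := by
  have := finiteType_of_pcHom h1
  have := finiteType_of_pcHom h2
  have : Algebra.FiniteType A B := Algebra.FiniteType.of_restrictScalars_finiteType R A B
  exact pcHom_of_rel fun m =>
    (RelPC.relPC_intermediate (rel_of_pcHom h1) _ m).2 (rel_of_pcHom h2 m)

end Comp

section Finite

variable {A B : Type u} [CommRing A] [CommRing B] [Algebra A B]

/-- For a finite algebra: pseudo-coherent map iff pseudo-coherent module. -/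
theorem pcHom_iff_of_finite [Module.Finite A B] :
    MoreMor.IsPseudoCoherentHom A B ↔ DRing.IsPseudoCoherentModule' A B := by
  have hid : DRing.IsPseudoCoherentModule' A A := PC.pcModule'_of_finiteFree
  have hA : DerCA.IsRelPseudoCoherentModuleAll A A A :=
    rel_of_pcHom ((pcHom_iff_of_surjective (A := A) (B := A) Function.surjective_id).2 hid)
  obtain ⟨n, α, hα⟩ := RelPC.exists_presentation A A
  let := α.toRingHom.toAlgebra
  have : IsScalarTower A (MvPolynomial (Fin n) A) A :=
    IsScalarTower.of_algebraMap_eq fun x => (α.commutes x).symm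
  have hP := pcModule'_of_rel (A := A) (B := A) hα hA
  rw [pcHom_iff_rel]
  refine Iff.trans ?_ (pc'_iff _).symm
  refine forall_congr' fun m => (RelPC.relPC_restrict_finite (R := A) (A := A) _ m).trans ?_
  rw [RelPC.isRel_iff α hα]
  exact (RelPC.good_of_module ((pc'_iff _).1 hP) _ m).symm.trans (pc_restrict_inD_iff B m)

end Finite

section BaseChange

variable {A A' B B' : Type u} [CommRing A] [CommRing A'] [CommRing B] [CommRing B'] [Algebra A A']
  [Algebra A B] [Algebra A' B'] [Algebra B B'] [Algebra A B'] [IsScalarTower A A' B']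
  [IsScalarTower A B B'] [Algebra.IsPushout A A' B B']

attribute [local instance] MvPolynomial.algebraMvPolynomial

/-- A presentation and its base change. -/
lemma exists_squarePresentation [Algebra.FiniteType A B] :
    ∃ (n : ℕ) (_ : Algebra (MvPolynomial (Fin n) A) B) (_ : Algebra (MvPolynomial (Fin n) A') B'),
      IsScalarTower A (MvPolynomial (Fin n) A) B ∧ IsScalarTower A' (MvPolynomial (Fin n) A') B' ∧
      Function.Surjective (algebraMap (MvPolynomial (Fin n) A) B) ∧
      Function.Surjective (algebraMap (MvPolynomial (Fin n) A') B') ∧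
      Nonempty ((MvPolynomial (Fin n) A') ⊗[MvPolynomial (Fin n) A] B ≃ₗ[MvPolynomial (Fin n) A'] B') := by
  obtain ⟨n, φ, hφ⟩ := Algebra.FiniteType.iff_quotient_mvPolynomial''.1
    (inferInstance : Algebra.FiniteType A B)
  let φ' : MvPolynomial (Fin n) A' →ₐ[A'] B' :=
    MvPolynomial.aeval fun i => algebraMap B B' (φ (MvPolynomial.X i))
  let := φ.toRingHom.toAlgebra
  let := φ'.toRingHom.toAlgebra
  let : Algebra (MvPolynomial (Fin n) A) B' := ((algebraMap B B').comp φ.toRingHom).toAlgebra
  have t1 : IsScalarTower A (MvPolynomial (Fin n) A) B :=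
    IsScalarTower.of_algebraMap_eq fun x => (φ.commutes x).symm
  have t2 : IsScalarTower A' (MvPolynomial (Fin n) A') B' :=
    IsScalarTower.of_algebraMap_eq fun x => (φ'.commutes x).symm
  have t3 : IsScalarTower (MvPolynomial (Fin n) A) B B' := IsScalarTower.of_algebraMap_eq fun _ => rfl
  have t4 : IsScalarTower A (MvPolynomial (Fin n) A) B' := IsScalarTower.of_algebraMap_eq fun x => by
    rw [IsScalarTower.algebraMap_apply A B B', IsScalarTower.algebraMap_apply A (MvPolynomial (Fin n) A) B]
    rfl
  have hsq : φ'.toRingHom.comp (algebraMap (MvPolynomial (Fin n) A) (MvPolynomial (Fin n) A')) =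
      (algebraMap B B').comp φ.toRingHom := by
    refine MvPolynomial.ringHom_ext (fun r => ?_) fun i => ?_
    · simp [φ', ← IsScalarTower.algebraMap_apply]
    · simp [φ']
  have t5 : IsScalarTower (MvPolynomial (Fin n) A) (MvPolynomial (Fin n) A') B' :=
    IsScalarTower.of_algebraMap_eq fun x => (RingHom.congr_fun hsq x).symm
  have t6 : IsScalarTower A (MvPolynomial (Fin n) A') B' := IsScalarTower.of_algebraMap_eq fun x => by
    rw [IsScalarTower.algebraMap_apply A A' B', IsScalarTower.algebraMap_apply A A' (MvPolynomial (Fin n) A'),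
      ← IsScalarTower.algebraMap_apply A' (MvPolynomial (Fin n) A') B']
  have hbig : Algebra.IsPushout A B A' B' := Algebra.IsPushout.symm inferInstance
  have hsmall : Algebra.IsPushout (MvPolynomial (Fin n) A) B (MvPolynomial (Fin n) A') B' :=
    (Algebra.IsPushout.comp_iff A (MvPolynomial (Fin n) A) A' (MvPolynomial (Fin n) A')).1 hbig
  have hb := hsmall.symm.out
  refine ⟨n, inferInstance, inferInstance, t1, t2, hφ, ?_, ⟨hb.equiv⟩⟩
  intro y
  induction y using hb.inductionOn with
  | zero => exact ⟨0, map_zero _⟩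
  | tmul b =>
    obtain ⟨p, rfl⟩ := hφ b
    exact ⟨algebraMap _ _ p, (RingHom.congr_fun hsq p)⟩
  | smul s y hy =>
    obtain ⟨q, rfl⟩ := hy
    exact ⟨s * q, by rw [map_mul, Algebra.smul_def]⟩
  | add x y hx hy =>
    obtain ⟨a, rfl⟩ := hx
    obtain ⟨b, rfl⟩ := hy
    exact ⟨a + b, map_add _ _ _⟩

lemma flat_mvPolynomial [Module.Flat A A'] (n : ℕ) :
    Module.Flat (MvPolynomial (Fin n) A) (MvPolynomial (Fin n) A') :=
  Module.Flat.isBaseChange A (MvPolynomial (Fin n) A) A' _
    (inferInstance : Algebra.IsPushout A (MvPolynomial (Fin n) A) A' (MvPolynomial (Fin n) A')).out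

theorem pcHom_baseChange [Module.Flat A A'] (h : MoreMor.IsPseudoCoherentHom A B) :
    MoreMor.IsPseudoCoherentHom A' B' := by
  have := finiteType_of_pcHom h
  obtain ⟨n, _, _, t1, t2, hφ, hφ', ⟨e⟩⟩ :=
    exists_squarePresentation (A := A) (A' := A') (B := B) (B' := B')
  have := flat_mvPolynomial (A := A) (A' := A') n
  rw [pcHom_iff_pcModule hφ] at h
  rw [pcHom_iff_pcModule hφ']
  exact (pc'_iff _).2 fun m => pcModule_congr e
    ((pc'_iff _).1 (RelPC.pcModule'_tensor h) m)

/-- Descent of `m`-pseudo-coherence of modules along a faithfully flat algebra. -/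
lemma pcModule_of_faithfullyFlat {P P' : Type u} [CommRing P] [CommRing P'] [iP : Algebra P P']
    [Module.FaithfullyFlat P P'] {M : Type u} [AddCommGroup M] [Module P M] {m : ℤ}
    (h : DRing.IsPseudoCoherentModule P' m (P' ⊗[P] M)) : DRing.IsPseudoCoherentModule P m M := by
  let ψ := algebraMap P P'
  have hi : iP = ψ.toAlgebra := Algebra.algebra_ext _ _ fun _ => rfl
  have key : ∀ (ψ : P →+* P') (i : Algebra P P'), ψ.Flat → PCDescent.Detects (fun _ : Unit => ψ) →
      i = ψ.toAlgebra →
      (letI := i; DRing.IsPseudoCoherentModule P' m (P' ⊗[P] M)) → DRing.IsPseudoCoherentModule P m M := by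
    intro ψ i hψ hd hi h
    subst hi
    obtain ⟨j⟩ := Perfect.nonempty_extendScalarsIso ψ M
    refine pc_of_iso (TorBalance.inDS0 M) (PCDescent.pc_of_detects (fun _ => hψ) hd _ m fun _ => ?_)
    exact pc_of_iso (DerivedCategory.Q.mapIso
      ((HomologicalComplex.singleMapHomologicalComplex (ModuleCat.extendScalars.{u, u, u} ψ)
        (ComplexShape.up ℤ) 0).app (ModuleCat.of P M) ≪≫
        (HomologicalComplex.single (ModuleCat.{u} P') (ComplexShape.up ℤ) 0).mapIso j) ≪≫
      ((singleFunctorIsoCompQ (ModuleCat.{u} P') 0).app _).symm).symm h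
  exact key ψ iP Descent.flat_algebraMap Descent.detects_faithfullyFlat hi h

lemma faithfullyFlat_mvPolynomial [Module.FaithfullyFlat A A'] (n : ℕ) :
    Module.FaithfullyFlat (MvPolynomial (Fin n) A) (MvPolynomial (Fin n) A') := by
  have h : IsBaseChange (MvPolynomial (Fin n) A)
      (IsScalarTower.toAlgHom A A' (MvPolynomial (Fin n) A')).toLinearMap := Algebra.IsPushout.out
  exact Module.FaithfullyFlat.of_linearEquiv _ _ h.equiv.symm

theorem pcHom_descend [Module.FaithfullyFlat A A'] (h : MoreMor.IsPseudoCoherentHom A' B') :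
    MoreMor.IsPseudoCoherentHom A B := by
  have := finiteType_of_pcHom h
  have : Algebra.FiniteType A B := by
    have : Algebra.FiniteType A' (A' ⊗[A] B) := Algebra.FiniteType.equiv ‹_›
      (Algebra.IsPushout.equiv A A' B B').symm
    exact .of_finiteType_tensorProduct_of_faithfullyFlat A'
  obtain ⟨n, _, _, t1, t2, hφ, hφ', ⟨e⟩⟩ :=
    exists_squarePresentation (A := A) (A' := A') (B := B) (B' := B')
  have := faithfullyFlat_mvPolynomial (A := A) (A' := A') n
  rw [pcHom_iff_pcModule hφ'] at h
  rw [pcHom_iff_pcModule hφ]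
  exact (pc'_iff _).2 fun m => pcModule_of_faithfullyFlat
    (pcModule_congr e.symm ((pc'_iff _).1 h m))

end BaseChange

end Groth.Agent.FlatMor.PC
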