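import Mathlib.AlgebraicGeometry.Morphisms.Flat
import Mathlib.AlgebraicGeometry.Morphisms.Affine
import Mathlib.AlgebraicGeometry.Morphisms.RingHomProperties
import Mathlib.AlgebraicGeometry.Morphisms.Descent
import Mathlib.AlgebraicGeometry.Morphisms.FlatDescent
import Mathlib.RingTheory.RingHom.FaithfullyFlat
import Mathlib.RingTheory.Localization.Away.Basic

/-!
# Affine-local properties of morphisms stable under flat base change, with flat descent

`LocalHom Q`: a property of algebras with the closure properties of pseudo-coherent (or perfect)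
ring maps; `Mor Q` is the associated property of morphisms of schemes ("all affine charts").
-/

set_option autoImplicit false
universe u

open CategoryTheory Limits AlgebraicGeometry
open scoped TensorProduct

namespace Groth.Agent.FlatMor.PC

variable (Q : ∀ (A B : Type u) [CommRing A] [CommRing B] [Algebra A B], Prop)

/-- A property of algebras as a property of ring maps. -/
def toRH : ∀ {A B : Type u} [CommRing A] [CommRing B], (A →+* B) → Prop :=
  fun {A B} _ _ φ => letI := φ.toAlgebra; Q A B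

lemma toRH_iff {A B : Type u} [CommRing A] [CommRing B] [i : Algebra A B] :
    toRH Q (algebraMap A B) ↔ Q A B := by
  have h : ∀ (φ : A →+* B) (i : Algebra A B), i = φ.toAlgebra → (toRH Q φ ↔ (letI := i; Q A B)) := by
    intro φ i hi
    subst hi
    exact Iff.rfl
  exact h _ i (Algebra.algebra_ext _ _ fun _ => rfl)

/-- For all affine charts, the ring map has the property. -/
def Mor : MorphismProperty Scheme.{u} := fun X Y f =>
  ∀ (U : X.Opens) (V : Y.Opens) (_ : IsAffineOpen U) (_ : IsAffineOpen V) (hUV : U ≤ f ⁻¹ᵁ V),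
    letI := (f.appLE V U hUV).hom.toAlgebra
    Q Γ(Y, V) Γ(X, U)

/-- Closure properties. -/
structure LocalHom : Prop where
  comp : ∀ (A B C : Type u) [CommRing A] [CommRing B] [CommRing C] [Algebra A B] [Algebra B C]
    [Algebra A C] [IsScalarTower A B C], Q A B → Q B C → Q A C
  away : ∀ (A : Type u) [CommRing A] (a : A) (S : Type u) [CommRing S] [Algebra A S]
    [IsLocalization.Away a S], Q A S
  span : ∀ (A B : Type u) [CommRing A] [CommRing B] [Algebra A B] (r : ℕ) (f : Fin r → B),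
    Ideal.span (Set.range f) = ⊤ → (∀ i, Q A (Localization.Away (f i))) → Q A B
  baseChange : ∀ (A A' B B' : Type u) [CommRing A] [CommRing A'] [CommRing B] [CommRing B']
    [Algebra A A'] [Algebra A B] [Algebra A' B'] [Algebra B B'] [Algebra A B'] [IsScalarTower A A' B']
    [IsScalarTower A B B'] [Algebra.IsPushout A A' B B'] [Module.Flat A A'], Q A B → Q A' B'
  descend : ∀ (A A' B B' : Type u) [CommRing A] [CommRing A'] [CommRing B] [CommRing B']
    [Algebra A A'] [Algebra A B] [Algebra A' B'] [Algebra B B'] [Algebra A B'] [IsScalarTower A A' B']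
    [IsScalarTower A B B'] [Algebra.IsPushout A A' B B'] [Module.FaithfullyFlat A A'], Q A' B' → Q A B
  iso : ∀ (A B C : Type u) [CommRing A] [CommRing B] [CommRing C] [Algebra A B] [Algebra A C],
    (B ≃ₐ[A] C) → Q A B → Q A C

variable {Q}

namespace LocalHom

variable (hQ : LocalHom Q)
include hQ

lemma toRH_comp {A B C : Type u} [CommRing A] [CommRing B] [CommRing C] (f : A →+* B) (g : B →+* C)
    (hf : toRH Q f) (hg : toRH Q g) : toRH Q (g.comp f) := by
  let := f.toAlgebra
  let := g.toAlgebra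
  let := (g.comp f).toAlgebra
  have : IsScalarTower A B C := IsScalarTower.of_algebraMap_eq fun _ => rfl
  exact hQ.comp A B C hf hg

lemma toRH_equiv {A B : Type u} [CommRing A] [CommRing B] (e : A ≃+* B) :
    toRH Q (e : A →+* B) := by
  let := (e : A →+* B).toAlgebra
  have := IsLocalization.away_of_isUnit_of_bijective B (isUnit_one (M := A)) e.bijective
  exact hQ.away A 1 B

lemma respectsIso : RingHom.RespectsIso (toRH Q) :=
  ⟨fun f e hf => hQ.toRH_comp f _ hf (hQ.toRH_equiv e),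
    fun f e hf => hQ.toRH_comp _ f (hQ.toRH_equiv e) hf⟩

lemma localizationAwayPreserves : RingHom.LocalizationAwayPreserves (toRH Q) := by
  introv R H
  let := f.toAlgebra
  let φ := IsLocalization.Away.map R' S' f r
  let := φ.toAlgebra
  let := ((algebraMap S S').comp f).toAlgebra
  have : IsScalarTower R S S' := IsScalarTower.of_algebraMap_eq fun _ => rfl
  have : IsScalarTower R R' S' := IsScalarTower.of_algebraMap_eq fun x => by
    change algebraMap S S' (f x) = φ (algebraMap R R' x)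
    exact (IsLocalization.map_eq _ x).symm
  have : IsLocalization (Algebra.algebraMapSubmonoid S (Submonoid.powers r)) S' := by
    rw [Algebra.algebraMapSubmonoid_powers]
    exact (inferInstanceAs (IsLocalization.Away (f r) S'))
  have : Algebra.IsPushout R R' S S' :=
    (Algebra.isPushout_of_isLocalization (Submonoid.powers r) R' S S').symm
  have := IsLocalization.flat R' (Submonoid.powers r)
  exact hQ.baseChange R R' S S' H

lemma ofLocalizationSpanTarget : RingHom.OfLocalizationSpanTarget (toRH Q) := by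
  rw [RingHom.ofLocalizationSpanTarget_iff_finite]
  introv R hs H
  let := f.toAlgebra
  refine hQ.span R S s.card (fun i => (s.equivFin.symm i : S)) ?_ fun i => ?_
  · rw [← hs]
    congr 1
    ext x
    exact ⟨fun ⟨i, hi⟩ => hi ▸ (s.equivFin.symm i).2, fun hx => ⟨s.equivFin ⟨x, hx⟩, by simp⟩⟩
  · have := H (s.equivFin.symm i)
    rw [← toRH_iff Q]
    exact (show algebraMap R (Localization.Away (s.equivFin.symm i : S)) =
      (algebraMap S _).comp f from IsScalarTower.algebraMap_eq R S _) ▸ this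

lemma stableUnderCompositionWithLocalizationAwayTarget :
    RingHom.StableUnderCompositionWithLocalizationAwayTarget (toRH Q) :=
  fun {_ S T} _ _ _ _ s _ f hf => hQ.toRH_comp f (algebraMap S T) hf
    ((toRH_iff Q).2 (hQ.away S s T))

lemma stableUnderCompositionWithLocalizationAwaySource :
    RingHom.StableUnderCompositionWithLocalizationAwaySource (toRH Q) :=
  fun {R S _} _ _ _ _ r _ f hf => hQ.toRH_comp (algebraMap R S) f
    ((toRH_iff Q).2 (hQ.away R r S)) hf

lemma ofLocalizationSpan : RingHom.OfLocalizationSpan (toRH Q) := by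
  introv R hs H
  refine hQ.ofLocalizationSpanTarget f (f '' s) ?_ ?_
  · rw [← Ideal.map_span, hs, Ideal.map_top]
  rintro ⟨-, r, hr, rfl⟩
  have h := hQ.toRH_comp (algebraMap R (Localization.Away r)) _
    ((toRH_iff Q).2 (hQ.away R r (Localization.Away r))) (H ⟨r, hr⟩)
  exact (show (Localization.awayMap f r).comp (algebraMap R (Localization.Away r)) =
    (algebraMap S (Localization.Away (f r))).comp f from IsLocalization.map_comp _) ▸ h

theorem propertyIsLocal : RingHom.PropertyIsLocal (toRH Q) :=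
  ⟨hQ.localizationAwayPreserves, hQ.ofLocalizationSpanTarget, hQ.ofLocalizationSpan,
    hQ.stableUnderCompositionWithLocalizationAwayTarget⟩

theorem hasRingHomProperty : HasRingHomProperty (Mor Q) (toRH Q) where
  isLocal_ringHomProperty := hQ.propertyIsLocal
  eq_affineLocally' := by
    ext X Y f
    rw [affineLocally_iff_forall_isAffineOpen]
    exact ⟨fun h U hU V hV e => h V U hV hU e, fun h U V hU hV e => h hV hU e⟩

theorem iff_exists_chart {X S : Scheme.{u}} (f : X ⟶ S) :
    Mor Q f ↔ ∀ x : X, ∃ (U : X.Opens) (V : S.Opens) (hUV : U ≤ f ⁻¹ᵁ V),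
      IsAffineOpen U ∧ IsAffineOpen V ∧ x ∈ U ∧
      (letI := (f.appLE V U hUV).hom.toAlgebra
       Q Γ(S, V) Γ(X, U)) := by
  have := hQ.hasRingHomProperty
  rw [HasRingHomProperty.iff_exists_appLE (P := Mor Q)
    hQ.stableUnderCompositionWithLocalizationAwaySource]
  refine forall_congr' fun x => ⟨?_, ?_⟩
  · rintro ⟨⟨V, hV⟩, ⟨U, hU⟩, hx, e, h⟩
    exact ⟨U, V, e, hU, hV, hx, h⟩
  · rintro ⟨U, V, e, hU, hV, hx, h⟩
    exact ⟨⟨V, hV⟩, ⟨U, hU⟩, hx, e, h⟩

theorem mor_comp {X Y Z : Scheme.{u}} (f : X ⟶ Y) (g : Y ⟶ Z) (hf : Mor Q f) (hg : Mor Q g) :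
    Mor Q (f ≫ g) := by
  have := hQ.hasRingHomProperty
  have h := HasRingHomProperty.stableUnderComposition (P := Mor Q) (Q := toRH Q)
    fun {R S T} _ _ _ a b ha hb => hQ.toRH_comp a b ha hb
  exact h.comp_mem f g hf hg

/-- Flat base change between affine schemes. -/
lemma affine_pullback {X S T P : Scheme.{u}} [IsAffine X] [IsAffine S] [IsAffine T] {fst : P ⟶ X}
    {snd : P ⟶ T} {f : X ⟶ S} {g : T ⟶ S} [Flat g] (h : IsPullback fst snd f g) (hf : Mor Q f) :
    Mor Q snd := by
  have := hQ.hasRingHomProperty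
  have : IsAffine P := IsAffine.of_isPullback h
  rw [HasRingHomProperty.iff_of_isAffine (P := Mor Q)] at hf ⊢
  have hg : g.appTop.hom.Flat := (HasRingHomProperty.iff_of_isAffine (P := @Flat)).1 inferInstance
  have hpo := (isPushout_appTop_of_isPullback h).flip
  let := f.appTop.hom.toAlgebra
  let := g.appTop.hom.toAlgebra
  let := snd.appTop.hom.toAlgebra
  let := fst.appTop.hom.toAlgebra
  let := (snd.appTop.hom.comp g.appTop.hom).toAlgebra
  have : IsScalarTower Γ(S, ⊤) Γ(T, ⊤) Γ(P, ⊤) := IsScalarTower.of_algebraMap_eq fun _ => rfl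
  have : IsScalarTower Γ(S, ⊤) Γ(X, ⊤) Γ(P, ⊤) := IsScalarTower.of_algebraMap_eq fun x =>
    congr($(hpo.w).hom x)
  have : Algebra.IsPushout Γ(S, ⊤) Γ(T, ⊤) Γ(X, ⊤) Γ(P, ⊤) :=
    CommRingCat.isPushout_iff_isPushout.1 hpo
  have : Module.Flat Γ(S, ⊤) Γ(T, ⊤) := hg
  exact hQ.baseChange Γ(S, ⊤) Γ(T, ⊤) Γ(X, ⊤) Γ(P, ⊤) hf

/-- Faithfully flat descent between affine schemes. -/
lemma affine_descend {X S T P : Scheme.{u}} [IsAffine X] [IsAffine S] [IsAffine T] {fst : P ⟶ X}
    {snd : P ⟶ T} {f : X ⟶ S} {g : T ⟶ S} [Flat g] [Surjective g] (h : IsPullback fst snd f g)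
    (hP : Mor Q snd) : Mor Q f := by
  have := hQ.hasRingHomProperty
  have : IsAffine P := IsAffine.of_isPullback h
  rw [HasRingHomProperty.iff_of_isAffine (P := Mor Q)] at hP ⊢
  have hg : g.appTop.hom.FaithfullyFlat :=
    ((Flat.flat_and_surjective_iff_faithfullyFlat_of_isAffine g).1 ⟨inferInstance, inferInstance⟩)
  have hpo := (isPushout_appTop_of_isPullback h).flip
  let := f.appTop.hom.toAlgebra
  let := g.appTop.hom.toAlgebra
  let := snd.appTop.hom.toAlgebra
  let := fst.appTop.hom.toAlgebra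
  let := (snd.appTop.hom.comp g.appTop.hom).toAlgebra
  have : IsScalarTower Γ(S, ⊤) Γ(T, ⊤) Γ(P, ⊤) := IsScalarTower.of_algebraMap_eq fun _ => rfl
  have : IsScalarTower Γ(S, ⊤) Γ(X, ⊤) Γ(P, ⊤) := IsScalarTower.of_algebraMap_eq fun x =>
    congr($(hpo.w).hom x)
  have : Algebra.IsPushout Γ(S, ⊤) Γ(T, ⊤) Γ(X, ⊤) Γ(P, ⊤) :=
    CommRingCat.isPushout_iff_isPushout.1 hpo
  have : Module.FaithfullyFlat Γ(S, ⊤) Γ(T, ⊤) := hg
  exact hQ.descend Γ(S, ⊤) Γ(T, ⊤) Γ(X, ⊤) Γ(P, ⊤) hP

lemma mor_of_isOpenImmersion {X Y : Scheme.{u}} (f : X ⟶ Y) [IsOpenImmersion f] : Mor Q f := by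
  have := hQ.hasRingHomProperty
  exact HasRingHomProperty.of_isOpenImmersion (P := Mor Q) (f := f) fun R _ => hQ.toRH_equiv (RingEquiv.refl R)

lemma chart_baseChange {X S S' : Scheme.{u}} (f : X ⟶ S) (g : S' ⟶ S) [Flat g] (hf : Mor Q f)
    (U : X.Opens) (V : S.Opens) (V' : S'.Opens) [IsAffine U.toScheme] [IsAffine V.toScheme]
    [IsAffine V'.toScheme] (eU : U ≤ f ⁻¹ᵁ V) (eV' : V' ≤ g ⁻¹ᵁ V) :
    Mor Q (pullback.map (f.resLE V U eU) (g.resLE V V' eV') f g U.ι V'.ι V.ι
      (Scheme.Hom.resLE_comp_ι ..) (Scheme.Hom.resLE_comp_ι ..) ≫ pullback.snd f g) := by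
  have := hQ.hasRingHomProperty
  have : Flat (g.resLE V V' eV') := IsZariskiLocalAtSource.resLE (P := @Flat) eV' inferInstance
  rw [show pullback.map (f.resLE V U eU) (g.resLE V V' eV') f g U.ι V'.ι V.ι
      (Scheme.Hom.resLE_comp_ι ..) (Scheme.Hom.resLE_comp_ι ..) ≫ pullback.snd f g =
      pullback.snd (f.resLE V U eU) (g.resLE V V' eV') ≫ V'.ι from pullback.lift_snd ..]
  exact hQ.mor_comp _ _ (hQ.affine_pullback (IsPullback.of_hasPullback _ _)
    (IsZariskiLocalAtSource.resLE (P := Mor Q) eU hf)) (hQ.mor_of_isOpenImmersion _)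

theorem mor_baseChange {X S X' S' : Scheme.{u}} (f : X ⟶ S) (f' : X' ⟶ S') (g' : X' ⟶ X)
    (g : S' ⟶ S) [Flat g] (hc : IsPullback g' f' f g) (hf : Mor Q f) : Mor Q f' := by
  have := hQ.hasRingHomProperty
  rw [show f' = hc.isoPullback.hom ≫ pullback.snd f g from hc.isoPullback_hom_snd.symm,
    MorphismProperty.cancel_left_of_respectsIso (Mor Q)]
  have hloc : ∀ z : ↑(pullback f g), ∃ (U : X.affineOpens) (V : S.affineOpens) (V' : S'.affineOpens),
      U.1 ≤ f ⁻¹ᵁ V.1 ∧ V'.1 ≤ g ⁻¹ᵁ V.1 ∧ pullback.fst f g z ∈ U.1 ∧ pullback.snd f g z ∈ V'.1 := by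
    intro z
    obtain ⟨V, hV, hzV, -⟩ := TopologicalSpace.Opens.isBasis_iff_nbhd.mp S.isBasis_affineOpens
      (TopologicalSpace.Opens.mem_top (f (pullback.fst f g z)))
    obtain ⟨U, hU, hzU, eU⟩ := TopologicalSpace.Opens.isBasis_iff_nbhd.mp X.isBasis_affineOpens
      (show pullback.fst f g z ∈ f ⁻¹ᵁ V from hzV)
    obtain ⟨V', hV', hzV', eV'⟩ := TopologicalSpace.Opens.isBasis_iff_nbhd.mp S'.isBasis_affineOpens
      (show pullback.snd f g z ∈ g ⁻¹ᵁ V by
        change g (pullback.snd f g z) ∈ V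
        rwa [← Scheme.Hom.comp_apply, ← pullback.condition, Scheme.Hom.comp_apply])
    exact ⟨⟨U, hU⟩, ⟨V, hV⟩, ⟨V', hV'⟩, eU, eV', hzU, hzV'⟩
  choose U V V' eU eV' hzU hzV' using hloc
  have hA : ∀ {Y : Scheme.{u}} (W : Y.affineOpens), IsAffine W.1.toScheme := fun W => W.2
  refine IsZariskiLocalAtSource.of_openCover (P := Mor Q)
    (Scheme.Cover.mkOfCovers (pullback f g : Scheme.{u})
      (fun z => pullback (f.resLE (V z).1 (U z).1 (eU z)) (g.resLE (V z).1 (V' z).1 (eV' z)))
      (fun z => pullback.map _ _ f g (U z).1.ι (V' z).1.ι (V z).1.ι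
        (Scheme.Hom.resLE_comp_ι ..) (Scheme.Hom.resLE_comp_ι ..))
      (fun z => ⟨z, ?_⟩) fun z => inferInstance) fun z => ?_
  · rw [← Set.mem_range, Scheme.Pullback.range_map]
    simp [hzU, hzV']
  · have := hA (U z); have := hA (V z); have := hA (V' z)
    exact hQ.chart_baseChange f g hf (U z).1 (V z).1 (V' z).1 (eU z) (eV' z)

theorem mor_descend {X S X' S' : Scheme.{u}} (f : X ⟶ S) (f' : X' ⟶ S') (g' : X' ⟶ X)
    (g : S' ⟶ S) [Flat g] [Surjective g] [QuasiCompact g] (hc : IsPullback g' f' f g)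
    (hf' : Mor Q f') : Mor Q f := by
  have := hQ.hasRingHomProperty
  intro U V hU hV e
  have : IsAffine U.toScheme := hU
  have : IsAffine V.toScheme := hV
  have : CompactSpace (g ⁻¹ᵁ V).toScheme :=
    isCompact_iff_compactSpace.1 (QuasiCompact.isCompact_preimage (f := g) _ V.2 hV.isCompact)
  obtain ⟨W, p, _, hp, _⟩ :=
    Scheme.exists_hom_isAffine_of_isZariskiLocalAtSource @Flat (g ⁻¹ᵁ V).toScheme
  have : Flat p := hp
  have : Flat (g ∣_ V) := IsZariskiLocalAtTarget.restrict ‹Flat g› V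
  have : Surjective (g ∣_ V) := IsZariskiLocalAtTarget.restrict ‹Surjective g› V
  let w : W ⟶ V.toScheme := p ≫ g ∣_ V
  let q : W ⟶ S' := p ≫ (g ⁻¹ᵁ V).ι
  have hwq : w ≫ V.ι = q ≫ g := by simp [w, q, morphismRestrict_ι]
  have hsq : IsPullback (pullback.fst f' q ≫ g') (pullback.snd f' q) f (q ≫ g) :=
    (IsPullback.of_hasPullback f' q).paste_horiz hc
  have h1 : Mor Q (pullback.snd f (q ≫ g)) := by
    have h := hQ.mor_baseChange f' _ _ q (IsPullback.of_hasPullback f' q) hf'
    rw [show pullback.snd f' q = hsq.isoPullback.hom ≫ pullback.snd f (q ≫ g) from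
      hsq.isoPullback_hom_snd.symm, MorphismProperty.cancel_left_of_respectsIso (Mor Q)] at h
    exact h
  have h2 : Mor Q (pullback.snd (f.resLE V U e) w) := by
    let k := pullback.map (f.resLE V U e) w f (q ≫ g) U.ι (𝟙 W) V.ι
      (Scheme.Hom.resLE_comp_ι ..) (by simpa using hwq)
    have h := hQ.mor_comp k _ (hQ.mor_of_isOpenImmersion k) h1
    rwa [show k ≫ pullback.snd f (q ≫ g) = pullback.snd (f.resLE V U e) w from
      (pullback.lift_snd ..).trans (Category.comp_id _)] at h
  have h3 := hQ.affine_descend (IsPullback.of_hasPullback (f.resLE V U e) w) h2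
  rw [HasRingHomProperty.iff_of_isAffine (P := Mor Q)] at h3
  exact (RingHom.RespectsIso.arrow_mk_iso_iff hQ.respectsIso (arrowResLEAppIso f V U e)).1 h3

end LocalHom

end Groth.Agent.FlatMor.PC
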