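import Groth.Agent.PerfTri.Regular
import Groth.Agent.FlatMor.PC.Cancel
import Groth.Agent.S9498
import Groth.Agent.S12451
import Groth.Agent.QCoh.Qcqs
import Groth.Agent.QCoh.FiniteType
import Groth.Agent.WeakAssSch.Unit

/-!
# Perfectness in `D(O_X)` from perfect modules of sections
-/

set_option autoImplicit false
universe u

open CategoryTheory Limits AlgebraicGeometry
attribute [local instance] HasDerivedCategory.standard

noncomputable section

namespace Groth.Agent.FlatMor.PC.PerfectPush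

theorem isPerfectModule_of_linearEquiv {A : Type u} [CommRing A] {M N : Type u} [AddCommGroup M]
    [Module A M] [AddCommGroup N] [Module A N] (e : M ≃ₗ[A] N) (h : DRing.IsPerfectModule A M) :
    DRing.IsPerfectModule A N := by
  obtain ⟨E, a, b, h₁, h₂, ⟨i⟩⟩ := h
  exact ⟨E, a, b, h₁, h₂, ⟨i ≪≫ (DerivedCategory.singleFunctor _ 0).mapIso e.toModuleIso⟩⟩

theorem isSP_inD_tilde {R : CommRingCat.{u}} (M : ModuleCat.{u} R)
    (h : DRing.IsPerfectModule R M) : PerfTri.Perfect.IsSP (DCoh.inD (Spec R) (tilde M)) := by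
  obtain ⟨E, a, b, hv, hE, ⟨e⟩⟩ := h
  obtain ⟨_, _⟩ := S9498.exact_tilde R
  have : (tilde.functor R).Additive := inferInstance
  let T := tilde.functor R
  exact ⟨(T.mapHomologicalComplex (ComplexShape.up ℤ)).obj E,
    ⟨⟨a, b, fun i hi => T.map_isZero (hv i hi)⟩,
      fun i => (S12451.result (E.X i)).mpr (hE i)⟩,
    ⟨((T.mapDerivedCategorySingleFunctor 0).app M).symm ≪≫ T.mapDerivedCategory.mapIso e.symm ≪≫
      T.mapDerivedCategoryFactors.app E⟩⟩

theorem isPerfect_of_sections {X : Scheme.{u}} (M : X.Modules) [M.IsQuasicoherent]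
    (h : ∀ x : X, ∃ (V : X.Opens) (_ : IsAffineOpen V), x ∈ V ∧
      DRing.IsPerfectModule Γ(X, V) Γ(M, V)) :
    DCoh.IsPerfect (DCoh.inD X M) := by
  refine (PerfTri.Perfect.near_iff _).mpr fun x => ?_
  obtain ⟨V, hV, hx, hp⟩ := h x
  refine ⟨Spec Γ(X, V), hV.fromSpec, inferInstance, by rwa [hV.range_fromSpec], ?_⟩
  refine PerfTri.Perfect.isSP_of_iso (PerfTri.Regular.restrInD hV.fromSpec M).symm ?_
  have : (QCoh.toSpec hV M).IsQuasicoherent :=
    Scheme.Modules.isQuasicoherent_restrictFunctor hV.fromSpec M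
  have := Scheme.Modules.isIso_fromTildeΓ_of_isQuasicoherent (QCoh.toSpec hV M)
  refine PerfTri.Perfect.isSP_of_iso
    ((DerivedCategory.singleFunctor _ 0).mapIso (asIso (QCoh.toSpec hV M).fromTildeΓ))
    (isSP_inD_tilde _ ?_)
  exact isPerfectModule_of_linearEquiv (QCoh.toSpecTopLinearEquiv hV M).symm hp

theorem isPerfect_push_structureModule {Z X : Scheme.{u}} (i : Z ⟶ X) [IsClosedImmersion i]
    (hi : MoreMor.IsPerfectMor i) :
    DCoh.IsPerfect (DCoh.inD X ((Coh.push i).obj (Coh.structureModule Z))) := by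
  have := WeakAssSch.isQuasicoherent_unit Z
  have : ((Coh.push i).obj (Coh.structureModule Z)).IsQuasicoherent :=
    QCoh.isQuasicoherent_pushforward i _
  refine isPerfect_of_sections _ fun x => ?_
  obtain ⟨V, hV, hx, -⟩ := exists_isAffineOpen_mem_and_subset (x := x) (U := ⊤) trivial
  refine ⟨V, hV, hx, ?_⟩
  let := (i.appLE V (i ⁻¹ᵁ V) le_rfl).hom.toAlgebra
  have hfin : (i.appLE V (i ⁻¹ᵁ V) le_rfl).hom.Finite := by
    rw [← Scheme.Hom.app_eq_appLE]
    exact i.finite_app V hV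
  have : Module.Finite Γ(X, V) Γ(Z, i ⁻¹ᵁ V) := hfin
  refine isPerfectModule_of_linearEquiv ?_
    (perfectModule_of_perfectHom (hi _ V (hV.preimage i) hV le_rfl))
  exact { AddEquiv.refl Γ(Z, i ⁻¹ᵁ V) with
    map_smul' := fun r x => by
      simp only [AddEquiv.toEquiv_eq_coe, Equiv.toFun_as_coe, EquivLike.coe_coe,
        AddEquiv.refl_apply, RingHom.id_apply, Algebra.smul_def]
      rw [RingHom.algebraMap_toAlgebra, ← Scheme.Hom.app_eq_appLE]
      rfl }

end Groth.Agent.FlatMor.PC.PerfectPush
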