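import Groth.Agent.FlatMor.PC.Cancel
import Groth.Agent.DRing.RegularPerfect
import Mathlib.RingTheory.RegularLocalRing.Polynomial

/-!
# Finite type algebras over regular rings are perfect
-/

set_option autoImplicit false
universe u

attribute [local instance] HasDerivedCategory.standard

namespace Groth.Agent.FlatMor.PC

theorem perfectHom_of_regular {A B : Type u} [CommRing A] [CommRing B] [Algebra A B] [IsRegularRing A]
    [Algebra.FiniteType A B] : MoreMor.IsPerfectHom A B := by
  rw [perfectHom_iff_presentation]
  obtain ⟨n, φ, hφ⟩ := Algebra.FiniteType.iff_quotient_mvPolynomial''.1 ‹Algebra.FiniteType A B›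
  refine ⟨n, φ, hφ, ?_⟩
  let := φ.toRingHom.toAlgebra
  have : Module.Finite (MvPolynomial (Fin n) A) B :=
    Module.Finite.of_surjective (Algebra.linearMap _ _) hφ
  exact Groth.Agent.DRing.Perfect.perfectModule_of_regular
    (fun p => IsRegularRing.isRegularLocalRing_localization p.asIdeal) B

end Groth.Agent.FlatMor.PC
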