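import Groth.Agent.FlatMor.PC.TorDim
import Groth.Agent.DRing.PerfectAmp
import Groth.Agent.DRing.Perfect
import Groth.Agent.DRing.PCTrunc
import Mathlib.RingTheory.Finiteness.Descent

/-!
# Pseudo-coherence of ring maps descends along faithfully flat finitely presented maps on the source

`P → B` surjective, `P → P'` flat, `W` a faithfully flat `B`-algebra and a quotient of `P'` which is
pseudo-coherent over `P'` and over `C = P' ⊗_P B`.  For a finite free resolution `G` of `W` over `P'`
the functor `M ↦ G ⊗ (P' ⊗_P M)` turns the syzygies of `B` over `P` into complexes whose top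
cohomology controls finite generation of these syzygies.
-/

set_option autoImplicit false
universe u

open CategoryTheory CategoryTheory.Limits DerivedCategory MonoidalCategory
open scoped TensorProduct

attribute [local instance] HasDerivedCategory.standard

namespace Groth.Agent.FlatMor.PC

open Groth.Agent.DRing Groth.Agent.DRing.PC

/-- Top cohomology of an extended complex. -/
lemma nonempty_top_ext {P C : Type u} [CommRing P] [CommRing C] (φ : P →+* C) (G : DRing.Cx P)
    (h : IsZero (G.X (0 + 1))) : ∀ (i : Algebra P C), i = φ.toAlgebra →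
      letI := i; Nonempty (Dual.HD C (DRing.toD ((LTensor.extCx φ).obj G)) 0 ≃ₗ[C]
        (C ⊗[P] G.X 0 ⧸ LinearMap.range ((G.d (0 - 1) 0).hom.baseChange C))) := by
  intro i hi
  subst hi
  exact ⟨(DBasic.hIso ((LTensor.extCx φ).obj G) 0).toLinearEquiv.trans
    (Perfect.topEquiv ((LTensor.extCx φ).obj G) 0 (Perfect.isZero_extCx φ h)).symm⟩

section Top

variable {P C W : Type u} [CommRing P] [CommRing C] [Algebra P C] [AddCommGroup W] [Module P W]
  [Module C W] [IsScalarTower P C W]

/-- Tensoring with a quotient ring does not change a module over the quotient. -/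
noncomputable def tensorQuotEquiv (hs : Function.Surjective (algebraMap P C)) : C ⊗[P] W ≃ₗ[C] W :=
  LinearEquiv.ofBijective
    (TensorProduct.AlgebraTensorModule.lift (((LinearMap.lsmul C W).flip).restrictScalars P).flip)
    ⟨fun x y h => by
      have key : ∀ z : C ⊗[P] W, z = (1 : C) ⊗ₜ[P]
          (TensorProduct.AlgebraTensorModule.lift (((LinearMap.lsmul C W).flip).restrictScalars P).flip) z := by
        intro z
        induction z using TensorProduct.induction_on with
        | zero => simp
        | tmul c w =>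
          obtain ⟨p, rfl⟩ := hs c
          simp [Algebra.algebraMap_eq_smul_one, TensorProduct.smul_tmul]
        | add x y hx hy => rw [map_add, TensorProduct.tmul_add, ← hx, ← hy]
      rw [key x, key y, h],
    fun w => ⟨1 ⊗ₜ w, by simp⟩⟩

/-- `C ⊗^L_P W`, restricted to `P`, is `(m-1)`-pseudo-coherent if `C` is `m`-pseudo-coherent over
`P` and `W` is pseudo-coherent over `P` and over `C`. -/
theorem pc_tensor_quotient (hs : Function.Surjective (algebraMap P C))
    (hWP : DRing.IsPseudoCoherentModule' P W) (hWC : DRing.IsPseudoCoherentModule' C W)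
    (G : DRing.Cx P) (hGv : DRing.VanishesAbove G 0) (hGf : DRing.TermwiseFiniteFree G)
    (θ : G.X 0 →ₗ[P] W) (hθ : Function.Surjective θ)
    (hker : LinearMap.ker θ = LinearMap.range (G.d (0 - 1) 0).hom)
    {m : ℤ} (hC : DRing.IsPseudoCoherentModule P m C) :
    DRing.IsPseudoCoherent P (m - 1) (DRing.toD (DRing.tensorCx G (ModuleCat.of P C))) := by
  let φ := algebraMap P C
  let Y := (LTensor.extCx φ).obj G
  have hYv : DRing.VanishesAbove Y 0 := fun i hi => Perfect.isZero_extCx φ (hGv i hi)
  have hYf : ∀ i, Module.Finite C (Y.X i) ∧ Module.Free C (Y.X i) := fun i =>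
    ⟨Perfect.finite_extendScalars φ (hGf i).1, Perfect.free_extendScalars φ (hGf i).2⟩
  have hYpc : DRing.IsPseudoCoherent' C (DRing.toD Y) :=
    ⟨Y, 0, hYv, hYf, ⟨Iso.refl _⟩⟩
  -- restriction of `Y` is `G ⊗ C`
  obtain ⟨eY⟩ : Nonempty ((DRing.restrictCx φ).obj Y ≅ DRing.tensorCx G (ModuleCat.of P C)) := by
    let e : ((ModuleCat.restrictScalars φ).obj (ModuleCat.of C C) : ModuleCat.{u} P) ≃ₗ[P] C :=
      { toFun := fun x => x
        invFun := fun x => x
        left_inv := fun _ => rfl
        right_inv := fun _ => rfl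
        map_add' := fun _ _ => rfl
        map_smul' := fun r x => IsScalarTower.algebraMap_smul C r (show C from x) }
    exact ⟨(NatIso.mapHomologicalComplex (SingleTensor.restrictExtendIso φ ≪≫
      (tensoringRight (ModuleCat.{u} P)).mapIso e.toModuleIso) (ComplexShape.up ℤ)).app G⟩
  -- the top cohomology of `Y` is `W`
  obtain ⟨l⟩ : Nonempty (Dual.HD C (DRing.toD Y) 0 ≃ₗ[C] W) := by
    let Θ := (tensorQuotEquiv hs).toLinearMap ∘ₗ θ.baseChange C
    have hΘ : Function.Surjective Θ :=
      (tensorQuotEquiv hs).surjective.comp (LinearMap.lTensor_surjective C hθ)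
    have hk : LinearMap.ker Θ = LinearMap.range ((G.d (0 - 1) 0).hom.baseChange C) := by
      rw [LinearMap.ker_comp, LinearEquiv.ker, Submodule.comap_bot]
      exact SetLike.ext fun x => lTensor_exact C (LinearMap.exact_iff.2 hker) hθ x
    obtain ⟨t⟩ := nonempty_top_ext φ G (hGv _ (by omega)) ‹Algebra P C›
      (Algebra.algebra_ext _ _ fun _ => rfl)
    exact ⟨t.trans ((Submodule.quotEquivOfEq _ _ hk.symm).trans
      (LinearMap.quotKerEquivOfSurjective Θ hΘ))⟩
  obtain ⟨φt, hφt⟩ := exists_toTop (DRing.toD Y) 0 fun i hi =>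
    (DBasic.subsingleton_HD_toD_iff Y i).2
      (ShortComplex.isZero_homology_of_isZero_X₂ _ (hYv i hi))
  obtain ⟨R, f, δ, hT⟩ := Pretriangulated.distinguished_cocone_triangle₁ φt
  have hW' : DRing.IsPseudoCoherentModule' C (Dual.HD C (DRing.toD Y) 0) :=
    (pc'_iff _).2 fun j => pcModule_congr l.symm ((pc'_iff _).1 hWC j)
  have hS : DRing.IsPseudoCoherent' C
      (DRing.toD (PC.sgl 0 (ModuleCat.of C (Dual.HD C (DRing.toD Y) 0)))) :=
    (pc'_iff _).2 fun j => pc_sgl_iff.2 (by rw [sub_zero]; exact (pc'_iff _).1 hW' j)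
  have hR : DRing.IsPseudoCoherent' C R := pc'_first hT hYpc hS
  have hRv : ∀ i, (-1 : ℤ) < i → Subsingleton (Dual.HD C R i) := by
    intro i hi
    rw [DBasic.subsingleton_HD_iff_isZero]
    have hzero : ∀ j, j ≠ 0 → IsZero ((DBasic.HF j).obj
        (DRing.toD (PC.sgl 0 (ModuleCat.of C (Dual.HD C (DRing.toD Y) 0))))) := fun j hj =>
      (DBasic.subsingleton_HD_iff_isZero _ _).1 (subsingleton_HD_sgl _ hj)
    have hf0 : (DBasic.HF i).map f = 0 := by
      by_cases hi0 : i = 0
      · subst hi0
        have : (DBasic.HF 0).map f ≫ (DBasic.HF 0).map φt = 0 := by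
          rw [← Functor.map_comp, show f ≫ φt = 0 from Pretriangulated.comp_distTriang_mor_zero₁₂ _ hT,
            Functor.map_zero]
        rwa [← cancel_mono ((DBasic.HF 0).map φt), zero_comp]
      · refine IsZero.eq_of_tgt ?_ _ _
        exact (DBasic.subsingleton_HD_iff_isZero _ _).1 ((DBasic.subsingleton_HD_toD_iff Y i).2
          (ShortComplex.isZero_homology_of_isZero_X₂ _ (hYv i (by omega))))
    have hm : Mono ((DBasic.HF i).map f) := by
      by_cases hin : i = 1
      · subst hin
        refine (HomologySequence.mono_homologyMap_mor₁_iff _ hT 0 1 rfl).2 ?_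
        have : Epi ((DBasic.HF 0).map (Pretriangulated.Triangle.mk f φt δ).mor₂) :=
          inferInstanceAs (Epi ((DBasic.HF 0).map φt))
        exact zero_of_epi_comp _ (HomologySequence.comp_δ _ hT 0 1 rfl)
      · exact (HomologySequence.mono_homologyMap_mor₁_iff _ hT (i - 1) i (by omega)).2
          ((hzero (i - 1) (by omega)).eq_of_src _ _)
    rw [IsZero.iff_id_eq_zero, ← cancel_mono ((DBasic.HF i).map f), Category.id_comp, zero_comp, hf0]
  obtain ⟨E, hEv, hEf, ⟨eE⟩⟩ := exists_finiteFree_rep ((pc'_iff _).1 hR) hRv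
  have hRP : DRing.IsPseudoCoherent P (m - 1) ((DRing.restrictD φ).obj R) := by
    refine pc_of_iso (TensorAmp.restrictDIso φ eE)
      (pc_of_terms _ (fun i hi => (ModuleCat.restrictScalars φ).map_isZero (hEv i hi)) fun i _ => ?_)
    by_cases hi : (-1 : ℤ) < i
    · have := ModuleCat.subsingleton_of_isZero ((ModuleCat.restrictScalars φ).map_isZero (hEv i hi))
      exact pc_of_vanishGE fun j _ => by
        by_cases hj : j = 0
        · subst hj
          exact (inDEquiv P ((ModuleCat.restrictScalars φ).obj (E.X i))).toEquiv.subsingleton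
        · exact subsingleton_HD_inD P _ j hj
    · obtain ⟨_, _⟩ := hEf i
      let b := Module.Free.chooseBasis C (E.X i)
      let e : (E.X i : Type u) ≃ₗ[C] (Fin (Fintype.card (Module.Free.ChooseBasisIndex C (E.X i))) → C) :=
        (b.reindex (Fintype.equivFin _)).equivFun
      refine pcModule_congr (show (Fin _ → C) ≃ₗ[P]
          ((ModuleCat.restrictScalars φ).obj (E.X i) : ModuleCat.{u} P) from
        { toFun := fun y => e.symm y
          invFun := fun x => e x
          left_inv := e.apply_symm_apply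
          right_inv := e.symm_apply_apply
          map_add' := map_add e.symm
          map_smul' := fun a y =>
            (congrArg e.symm (algebraMap_smul C a y).symm).trans (map_smul e.symm _ y) })
        (PCRestrict.pcModule_pi (pc_mono hC (by omega)) _)
  have hSP : DRing.IsPseudoCoherent P (m - 1) ((DRing.restrictD φ).obj
      (DRing.toD (PC.sgl 0 (ModuleCat.of C (Dual.HD C (DRing.toD Y) 0))))) :=
    pc_of_iso ((DRing.restrictD φ).mapIso
      ((singleFunctor (ModuleCat.{u} C) 0).mapIso l.symm.toModuleIso ≪≫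
        (singleFunctorIsoCompQ (ModuleCat.{u} C) 0).app _))
      ((pc_restrict_inD_iff W (m - 1)).2 ((pc'_iff _).1 hWP (m - 1)))
  have h := pc_middle ((DRing.restrictD φ).map_distinguished _ hT) hRP hSP
  exact pc_of_iso ((TensorAmp.restrictDIso φ (Iso.refl (DRing.toD Y))).symm ≪≫ Q.mapIso eY) h

end Top

section Complex

variable {P : Type u} [CommRing P] (G : DRing.Cx P)

/-- Tensoring a termwise free complex with a short exact sequence of modules. -/
theorem exists_tensor_triangle (hGf : DRing.TermwiseFiniteFree G) (S : ShortComplex (ModuleCat.{u} P))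
    (hS : S.ShortExact) :
    ∃ T : Pretriangulated.Triangle (Dual.D P), T ∈ Pretriangulated.distinguishedTriangles ∧
      T.obj₁ = DRing.toD (DRing.tensorCx G S.X₁) ∧ T.obj₂ = DRing.toD (DRing.tensorCx G S.X₂) ∧
      T.obj₃ = DRing.toD (DRing.tensorCx G S.X₃) := by
  let α := (NatTrans.mapHomologicalComplex ((tensoringRight (ModuleCat.{u} P)).map S.f)
    (ComplexShape.up ℤ)).app G
  let β := (NatTrans.mapHomologicalComplex ((tensoringRight (ModuleCat.{u} P)).map S.g)
    (ComplexShape.up ℤ)).app G
  have hzero : α ≫ β = 0 := HomologicalComplex.hom_ext _ _ fun i => by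
    change G.X i ◁ S.f ≫ G.X i ◁ S.g = 0
    rw [← MonoidalCategory.whiskerLeft_comp, S.zero, MonoidalPreadditive.whiskerLeft_zero]
  have hex : Function.Exact S.f.hom S.g.hom :=
    LinearMap.exact_iff.2 ((ShortComplex.moduleCat_exact_iff_range_eq_ker S).1 hS.exact).symm
  have hses : (ShortComplex.mk α β hzero).ShortExact := by
    refine HomologicalComplex.shortExact_of_degreewise_shortExact _ fun i => ?_
    have := (hGf i).2
    refine { exact := ?_, mono_f := ?_, epi_g := ?_ }
    · exact (ShortComplex.moduleCat_exact_iff_range_eq_ker _).2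
        (LinearMap.exact_iff.1 (Module.Flat.lTensor_exact (G.X i) hex)).symm
    · exact (ModuleCat.mono_iff_injective _).2 (Module.Flat.lTensor_preserves_injective_linearMap
        (M := G.X i) S.f.hom ((ModuleCat.mono_iff_injective _).1 hS.mono_f))
    · exact (ModuleCat.epi_iff_surjective _).2
        (LinearMap.lTensor_surjective (G.X i) ((ModuleCat.epi_iff_surjective _).1 hS.epi_g))
  exact ⟨_, triangleOfSES_distinguished hses, rfl, rfl, rfl⟩

lemma pc_tensor_finiteFree (hGv : DRing.VanishesAbove G 0) (hGf : DRing.TermwiseFiniteFree G)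
    (F : Type u) [AddCommGroup F] [Module P F] [Module.Finite P F] [Module.Free P F] (m : ℤ) :
    DRing.IsPseudoCoherent P m (DRing.toD (DRing.tensorCx G (ModuleCat.of P F))) := by
  refine pc_of_terms _ (fun i hi => (tensorRight (ModuleCat.of P F)).map_isZero (hGv i hi)) fun i _ => ?_
  obtain ⟨_, _⟩ := hGf i
  have : Module.Finite P ((DRing.tensorCx G (ModuleCat.of P F)).X i) :=
    inferInstanceAs (Module.Finite P (G.X i ⊗[P] F))
  have : Module.Free P ((DRing.tensorCx G (ModuleCat.of P F)).X i) :=
    inferInstanceAs (Module.Free P (G.X i ⊗[P] F))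
  exact (pc'_iff _).1 pcModule'_of_finiteFree _

/-- Top cohomology. -/
lemma finite_tensor_top (hGv : DRing.VanishesAbove G 0) {W : Type u} [AddCommGroup W] [Module P W]
    (θ : G.X 0 →ₗ[P] W) (hθ : Function.Surjective θ)
    (hθ0 : ∀ x, θ ((G.d (0 - 1) 0).hom x) = 0) (M : Type u) [AddCommGroup M] [Module P M]
    (h : DRing.IsPseudoCoherent P 0 (DRing.toD (DRing.tensorCx G (ModuleCat.of P M)))) :
    Module.Finite P (W ⊗[P] M) := by
  let X := DRing.tensorCx G (ModuleCat.of P M)
  have hXv : DRing.VanishesAbove X 0 := fun i hi =>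
    (tensorRight (ModuleCat.of P M)).map_isZero (hGv i hi)
  have := finite_top h fun i hi => (DBasic.subsingleton_HD_toD_iff X i).2
    (ShortComplex.isZero_homology_of_isZero_X₂ _ (hXv i hi))
  have hfin : Module.Finite P (X.X 0 ⧸ LinearMap.range (X.d (0 - 1) 0).hom) :=
    Module.Finite.equiv ((Perfect.topEquiv X 0 (hXv _ (by omega))).trans
      (DBasic.hIso X 0).symm.toLinearEquiv).symm
  let Θ : (X.X 0 : Type u) →ₗ[P] W ⊗[P] M := θ.rTensor M
  have hle : LinearMap.range (X.d (0 - 1) 0).hom ≤ LinearMap.ker Θ := by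
    rintro _ ⟨z, rfl⟩
    rw [LinearMap.mem_ker]
    change θ.rTensor M ((G.d (0 - 1) 0).hom.rTensor M z) = 0
    rw [← LinearMap.comp_apply, ← LinearMap.rTensor_comp,
      show θ ∘ₗ (G.d (0 - 1) 0).hom = 0 from LinearMap.ext hθ0, LinearMap.rTensor_zero,
      LinearMap.zero_apply]
  refine Module.Finite.of_surjective (Submodule.liftQ _ Θ hle) ?_
  rw [← LinearMap.range_eq_top, Submodule.range_liftQ, LinearMap.range_eq_top]
  exact LinearMap.rTensor_surjective M hθ

end Complex

section Induction

variable {P : Type u} [CommRing P] (I : Ideal P)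

/-- Multiplication by elements of `I` factors through finite free modules. -/
def IFac (M : Type u) [AddCommGroup M] [Module P M] : Prop :=
  ∀ a ∈ I, ∃ (L : Type u) (_ : AddCommGroup L) (_ : Module P L) (v : M →ₗ[P] L) (w : L →ₗ[P] M),
    Module.Finite P L ∧ Module.Free P L ∧ ∀ x, w (v x) = a • x

lemma iFac_ker {F M : Type u} [AddCommGroup F] [Module P F] [Module.Finite P F] [Module.Free P F]
    [AddCommGroup M] [Module P M] (f : F →ₗ[P] M) (hf : Function.Surjective f) (h : IFac I M) :
    IFac I (LinearMap.ker f) := by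
  intro a ha
  obtain ⟨L, _, _, v, w, _, _, hvw⟩ := h a ha
  obtain ⟨w', hw'⟩ := Module.projective_lifting_property f w hf
  have hmem : ∀ x : F, (a • (LinearMap.id : F →ₗ[P] F) - w' ∘ₗ v ∘ₗ f) x ∈ LinearMap.ker f := fun x => by
    rw [LinearMap.mem_ker, LinearMap.sub_apply, LinearMap.smul_apply, LinearMap.id_apply, map_sub,
      map_smul, LinearMap.comp_apply, LinearMap.comp_apply,
      show f (w' (v (f x))) = w (v (f x)) from LinearMap.congr_fun hw' _, hvw, sub_self]
  refine ⟨F, inferInstance, inferInstance, (LinearMap.ker f).subtype,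
    ((a • (LinearMap.id : F →ₗ[P] F) - w' ∘ₗ v ∘ₗ f : F →ₗ[P] F)).codRestrict _ hmem, inferInstance, inferInstance, fun x => ?_⟩
  refine Subtype.ext ?_
  simp [show f x.1 = 0 from x.2]

lemma finite_of_iFac (hI : I.FG) {N : Type u} [AddCommGroup N] [Module P N] (h : IFac I N)
    (hq : Module.Finite P (N ⧸ (I • ⊤ : Submodule P N))) : Module.Finite P N := by
  obtain ⟨s, hs⟩ := hI
  choose L _ _ v w hL hLf hvw using fun a : s => h a (hs ▸ Ideal.subset_span a.2)
  let V : Submodule P N := ⨆ a : s, LinearMap.range (w a)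
  have hV : V.FG := Submodule.fg_iSup _ fun a => by
    have := hL a
    exact Module.Finite.iff_fg.1 (Module.Finite.range (w a))
  have hle : (I • ⊤ : Submodule P N) ≤ V := by
    rw [Submodule.smul_le]
    intro a ha x _
    rw [← hs] at ha
    induction ha using Submodule.span_induction with
    | mem a ha => exact Submodule.mem_iSup_of_mem (⟨a, ha⟩ : s) ⟨v _ x, hvw _ x⟩
    | zero => rw [zero_smul]; exact V.zero_mem
    | add a b _ _ hx hy => rw [add_smul]; exact V.add_mem hx hy
    | smul c a _ hx => rw [smul_eq_mul, mul_smul]; exact V.smul_mem c hx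
  have : Module.Finite P (N ⧸ V) :=
    Module.Finite.of_surjective _ (Submodule.factor_surjective hle)
  have : Module.Finite P V := Module.Finite.iff_fg.2 hV
  exact Module.Finite.of_submodule_quotient V

end Induction

section Main

variable {P P' B W : Type u} [CommRing P] [CommRing P'] [CommRing B] [CommRing W] [Algebra P P']
  [Algebra P B] [Algebra B W] [Algebra P' W] [Algebra P W] [IsScalarTower P B W]
  [IsScalarTower P P' W]

lemma finite_quotient_of_finite_tensor [Module.FaithfullyFlat B W]
    (hs : Function.Surjective (algebraMap P B)) (N : Type u) [AddCommGroup N] [Module P N]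
    (h : Module.Finite P' (W ⊗[P'] (P' ⊗[P] N))) :
    Module.Finite P (N ⧸ (RingHom.ker (algebraMap P B) • ⊤ : Submodule P N)) := by
  have h1 : Module.Finite W (W ⊗[P'] (P' ⊗[P] N)) := Module.Finite.of_restrictScalars_finite P' W _
  have h2 : Module.Finite W (W ⊗[P] N) := Module.Finite.equiv
    (TensorProduct.AlgebraTensorModule.cancelBaseChange P P' W W N)
  have h3 : Module.Finite W (W ⊗[B] (B ⊗[P] N)) := Module.Finite.equiv
    (TensorProduct.AlgebraTensorModule.cancelBaseChange P B W W N).symm
  have h4 : Module.Finite B (B ⊗[P] N) :=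
    Module.Finite.of_finite_tensorProduct_of_faithfullyFlat W
  have : Module.Finite P B := Module.Finite.of_surjective (Algebra.linearMap P B) hs
  have h5 : Module.Finite P (B ⊗[P] N) := Module.Finite.trans B _
  let e : (P ⧸ RingHom.ker (algebraMap P B)) ≃ₗ[P] B :=
    LinearMap.quotKerEquivOfSurjective (Algebra.linearMap P B) hs
  exact Module.Finite.equiv ((TensorProduct.congr e.symm (LinearEquiv.refl P N)).trans
    (TensorProduct.quotTensorEquivQuotSMul N _))

variable [Module.Flat P P'] [Module.FaithfullyFlat B W]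

lemma pc_syzygy_step (G : DRing.Cx P') (hGv : DRing.VanishesAbove G 0)
    (hGf : DRing.TermwiseFiniteFree G) (θ : G.X 0 →ₗ[P'] W) (hθ : Function.Surjective θ)
    (hθ0 : ∀ x, θ ((G.d (0 - 1) 0).hom x) = 0) (hs : Function.Surjective (algebraMap P B))
    (hI : (RingHom.ker (algebraMap P B)).FG) (k : ℕ) :
    ∀ (M : Type u) [AddCommGroup M] [Module P M], IFac (RingHom.ker (algebraMap P B)) M →
      DRing.IsPseudoCoherentModule P (-(k : ℤ)) M →
      DRing.IsPseudoCoherent P' (-(k : ℤ) - 1)
        (DRing.toD (DRing.tensorCx G (ModuleCat.of P' (P' ⊗[P] M)))) →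
      DRing.IsPseudoCoherentModule P (-(k : ℤ) - 1) M := by
  induction k with
  | zero =>
    intro M _ _ hM hpc hΦ
    have := pcModule_zero_iff.1 (by simpa using hpc)
    obtain ⟨r, f, hf⟩ := Module.Finite.exists_fin' P M
    rw [pcModule_step_iff f hf (-((0 : ℕ) : ℤ))]
    simp only [Nat.cast_zero, neg_zero] at hΦ ⊢
    refine pcModule_zero_iff.2 (finite_of_iFac _ hI (iFac_ker _ f hf hM)
      (finite_quotient_of_finite_tensor (P' := P') (W := W) hs _
        (finite_tensor_top G hGv θ hθ hθ0 _ ?_)))
    obtain ⟨T, hT, h1, h2, h3⟩ := exists_tensor_triangle G hGf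
      (ShortComplex.moduleCatMk ((LinearMap.ker f).subtype.baseChange P') (f.baseChange P') (by
        rw [← LinearMap.baseChange_comp, LinearMap.comp_ker_subtype, LinearMap.baseChange_zero]))
      { exact := (ShortComplex.moduleCat_exact_iff_range_eq_ker _).2
          (SetLike.ext fun x => ((lTensor_exact P' (LinearMap.exact_subtype_ker_map f) hf) x).symm)
        mono_f := (ModuleCat.mono_iff_injective _).2
          (Module.Flat.lTensor_preserves_injective_linearMap (M := P') _
            (LinearMap.ker f).subtype_injective)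
        epi_g := (ModuleCat.epi_iff_surjective _).2 (LinearMap.lTensor_surjective P' hf) }
    have h2' : DRing.IsPseudoCoherent P' (-1 + 1) T.obj₂ := by
      rw [h2]; exact pc_tensor_finiteFree G hGv hGf (P' ⊗[P] (Fin r → P)) _
    have := pc_first hT h2' (by rw [h3]; exact hΦ)
    rw [h1] at this
    simp only [neg_add_cancel] at this
    exact this
  | succ k ih =>
    intro M _ _ hM hpc hΦ
    have := pcModule_zero_iff.1 (pc_mono hpc (by omega) : DRing.IsPseudoCoherentModule P 0 M)
    obtain ⟨r, f, hf⟩ := Module.Finite.exists_fin' P M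
    rw [pcModule_step_iff f hf (-((k + 1 : ℕ) : ℤ))]
    have hk : (-((k + 1 : ℕ) : ℤ)) = -(k : ℤ) - 1 := by push_cast; ring
    rw [hk] at hpc hΦ ⊢
    refine ih _ (iFac_ker _ f hf hM) ((pcModule_step_iff f hf _).1 hpc) ?_
    obtain ⟨T, hT, h1, h2, h3⟩ := exists_tensor_triangle G hGf
      (ShortComplex.moduleCatMk ((LinearMap.ker f).subtype.baseChange P') (f.baseChange P') (by
        rw [← LinearMap.baseChange_comp, LinearMap.comp_ker_subtype, LinearMap.baseChange_zero]))
      { exact := (ShortComplex.moduleCat_exact_iff_range_eq_ker _).2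
          (SetLike.ext fun x => ((lTensor_exact P' (LinearMap.exact_subtype_ker_map f) hf) x).symm)
        mono_f := (ModuleCat.mono_iff_injective _).2
          (Module.Flat.lTensor_preserves_injective_linearMap (M := P') _
            (LinearMap.ker f).subtype_injective)
        epi_g := (ModuleCat.epi_iff_surjective _).2 (LinearMap.lTensor_surjective P' hf) }
    have h2' : DRing.IsPseudoCoherent P' (-(k : ℤ) - 1 - 1 + 1) T.obj₂ := by
      rw [h2]; exact pc_tensor_finiteFree G hGv hGf (P' ⊗[P] (Fin r → P)) _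
    have := pc_first hT h2' (by rw [h3]; exact hΦ)
    rw [h1, sub_add_cancel] at this
    exact this

theorem pcModule_of_cover [Algebra.FinitePresentation P P'] [Algebra.FinitePresentation B W]
    (hs : Function.Surjective (algebraMap P B)) (hI : (RingHom.ker (algebraMap P B)).FG)
    (hs' : Function.Surjective (algebraMap P' W)) (hW : MoreMor.IsPseudoCoherentHom P' W) :
    DRing.IsPseudoCoherentModule' P B := by
  have hWP : DRing.IsPseudoCoherentModule' P' W := (pcHom_iff_of_surjective hs').1 hW
  -- `W` over `C = P' ⊗ B`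
  let : Algebra B (P' ⊗[P] B) := Algebra.TensorProduct.rightAlgebra
  have : Algebra.IsPushout P B P' (P' ⊗[P] B) :=
    Algebra.IsPushout.symm (TensorProduct.isPushout (R := P) (S := P') (T := B))
  let π : P' ⊗[P] B →ₐ[P'] W :=
    Algebra.TensorProduct.lift (Algebra.ofId P' W) (IsScalarTower.toAlgHom P B W)
      fun _ _ => mul_comm _ _
  let := π.toRingHom.toAlgebra
  have : IsScalarTower P' (P' ⊗[P] B) W :=
    IsScalarTower.of_algebraMap_eq fun x => (π.commutes x).symm
  have : IsScalarTower B (P' ⊗[P] B) W := IsScalarTower.of_algebraMap_eq fun b => by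
    change algebraMap B W b = π (1 ⊗ₜ b)
    simp [π]
  have hsC : Function.Surjective (algebraMap P' (P' ⊗[P] B)) := fun z => by
    induction z using TensorProduct.induction_on with
    | zero => exact ⟨0, map_zero _⟩
    | tmul x b =>
      obtain ⟨p, rfl⟩ := hs b
      refine ⟨x * algebraMap P P' p, ?_⟩
      change (x * algebraMap P P' p) ⊗ₜ[P] (1 : B) = x ⊗ₜ algebraMap P B p
      rw [Algebra.algebraMap_eq_smul_one (A := B) p, ← TensorProduct.smul_tmul, Algebra.smul_def,
        mul_comm]
    | add x y hx hy =>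
      obtain ⟨a, rfl⟩ := hx
      obtain ⟨b, rfl⟩ := hy
      exact ⟨a + b, map_add _ _ _⟩
  have hBC : MoreMor.IsPseudoCoherentHom B (P' ⊗[P] B) :=
    have hb : IsBaseChange B (IsScalarTower.toAlgHom P P' (P' ⊗[P] B)).toLinearMap := Algebra.IsPushout.out
    have : Module.Flat B (P' ⊗[P] B) := Module.Flat.isBaseChange P B P' _ hb
    have : Algebra.FinitePresentation B (P' ⊗[P] B) :=
      Algebra.FinitePresentation.equiv (Algebra.IsPushout.equiv P B P' (P' ⊗[P] B))
    pcHom_of_flat_fp
  have hWC : DRing.IsPseudoCoherentModule' (P' ⊗[P] B) W := by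
    refine (pcHom_iff_of_surjective ?_).1 (pcHom_of_comp hBC (pcHom_of_flat_fp (A := B) (B := W)))
    intro w
    obtain ⟨x, rfl⟩ := hs' w
    exact ⟨algebraMap P' _ x, (IsScalarTower.algebraMap_apply P' (P' ⊗[P] B) W x).symm⟩
  -- resolution of `W`
  obtain ⟨G, hGv, hGf, ⟨e⟩⟩ := exists_finiteFree_rep ((pc'_iff _).1 hWP) (b := 0)
    fun i hi => subsingleton_HD_inD P' W i (by omega)
  let l : (G.X 0 ⧸ LinearMap.range (G.d (0 - 1) 0).hom) ≃ₗ[P'] W :=
    (Perfect.topEquiv G 0 (hGv _ (by omega))).trans
      (((DBasic.hIso G 0).symm ≪≫ (DBasic.HF 0).mapIso e).toLinearEquiv.trans (inDEquiv P' W))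
  let θ : G.X 0 →ₗ[P'] W := l.toLinearMap ∘ₗ Submodule.mkQ _
  have hθ : Function.Surjective θ := l.surjective.comp (Submodule.mkQ_surjective _)
  have hθk : LinearMap.ker θ = LinearMap.range (G.d (0 - 1) 0).hom := by
    rw [LinearMap.ker_comp, LinearEquiv.ker, Submodule.comap_bot, Submodule.ker_mkQ]
  have hθ0 : ∀ x, θ ((G.d (0 - 1) 0).hom x) = 0 := fun x => by
    rw [← LinearMap.mem_ker, hθk]; exact ⟨x, rfl⟩
  have hB : IFac (RingHom.ker (algebraMap P B)) B := fun a ha =>
    ⟨PUnit.{u + 1}, inferInstance, inferInstance, 0, 0, inferInstance, Module.Free.of_subsingleton P PUnit.{u + 1},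
      fun x => by simp [Algebra.smul_def, RingHom.mem_ker.1 ha]⟩
  suffices h : ∀ k : ℕ, DRing.IsPseudoCoherentModule P (-(k : ℤ)) B from
    (pc'_iff _).2 fun m => pc_mono (h (-m).toNat) (by omega)
  intro k
  induction k with
  | zero =>
    simpa using pcModule_zero_iff.2 (Module.Finite.of_surjective (Algebra.linearMap P B) hs)
  | succ k ih =>
    rw [show -((k + 1 : ℕ) : ℤ) = -(k : ℤ) - 1 by push_cast; ring]
    refine pc_syzygy_step G hGv hGf θ hθ hθ0 hs hI k B hB ih ?_
    refine pc_tensor_quotient hsC hWP hWC G hGv hGf θ hθ hθk ?_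
    have key : ∀ (φ : P →+* P') (i : Algebra P P'), φ.Flat → i = φ.toAlgebra →
        letI := i; DRing.IsPseudoCoherentModule P' (-(k : ℤ)) (P' ⊗[P] B) := by
      intro φ i hφ hi
      subst hi
      exact Groth.Agent.DRing.Perfect.pcModule_baseChange φ hφ ih
    exact key (algebraMap P P') _ (RingHom.flat_algebraMap_iff.2 inferInstance)
      (Algebra.algebra_ext _ _ fun _ => rfl)

end Main

section Hom

variable {A B B' : Type u} [CommRing A] [CommRing B] [CommRing B'] [Algebra A B] [Algebra B B']
  [Algebra A B'] [IsScalarTower A B B'] [Algebra.FinitePresentation B B'] [Module.FaithfullyFlat B B']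

theorem pcHom_of_cover_source (h : MoreMor.IsPseudoCoherentHom A B') :
    MoreMor.IsPseudoCoherentHom A B := by
  have hfp' : Algebra.FinitePresentation A B' := by
    obtain ⟨n, φ, hφ, h'⟩ := h
    let := φ.toRingHom.toAlgebra
    exact Algebra.FinitePresentation.of_surjective hφ
      (Module.FinitePresentation.fg_ker (Algebra.linearMap (MvPolynomial (Fin n) A) B')
        (h := pcModule_negOne_iff.1 ((pc'_iff _).1 h' (-1))) hφ)
  have hfp : Algebra.FinitePresentation A B :=
    (GrpdLib.FppfSourceDescent.finiteType_and_finitePresentation_of_faithfullyFlat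
      (R := A) (A := B) (B := B')).2 hfp'
  obtain ⟨n, α, hα⟩ := Algebra.FiniteType.iff_quotient_mvPolynomial''.1
    (inferInstance : Algebra.FiniteType A B)
  obtain ⟨m, β, hβ⟩ := Algebra.FiniteType.iff_quotient_mvPolynomial''.1
    (inferInstance : Algebra.FiniteType B B')
  let := α.toRingHom.toAlgebra
  have : IsScalarTower A (MvPolynomial (Fin n) A) B :=
    IsScalarTower.of_algebraMap_eq fun x => (α.commutes x).symm
  rw [pcHom_iff_pcModule hα]
  let : Algebra (MvPolynomial (Fin n) A) B' := ((algebraMap B B').comp α.toRingHom).toAlgebra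
  have : IsScalarTower (MvPolynomial (Fin n) A) B B' := IsScalarTower.of_algebraMap_eq fun _ => rfl
  let β' : MvPolynomial (Fin m) (MvPolynomial (Fin n) A) →ₐ[MvPolynomial (Fin n) A] B' :=
    MvPolynomial.aeval fun i => β (MvPolynomial.X i)
  let := β'.toRingHom.toAlgebra
  have : IsScalarTower (MvPolynomial (Fin n) A) (MvPolynomial (Fin m) (MvPolynomial (Fin n) A)) B' :=
    IsScalarTower.of_algebraMap_eq fun x => (β'.commutes x).symm
  have : IsScalarTower A (MvPolynomial (Fin m) (MvPolynomial (Fin n) A)) B' :=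
    IsScalarTower.of_algebraMap_eq fun x => by
      rw [IsScalarTower.algebraMap_apply A (MvPolynomial (Fin n) A)
          (MvPolynomial (Fin m) (MvPolynomial (Fin n) A)),
        ← IsScalarTower.algebraMap_apply (MvPolynomial (Fin n) A)
          (MvPolynomial (Fin m) (MvPolynomial (Fin n) A)) B']
      change algebraMap A B' x = algebraMap B B' (α (algebraMap A _ x))
      rw [α.commutes, ← IsScalarTower.algebraMap_apply]
  have hsq : β'.toRingHom = β.toRingHom.comp (MvPolynomial.map α.toRingHom) := by
    refine MvPolynomial.ringHom_ext (fun r => ?_) fun i => ?_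
    · simp [β', RingHom.algebraMap_toAlgebra]
    · simp [β']
  have hs' : Function.Surjective β'.toRingHom := by
    rw [hsq]; exact hβ.comp (MvPolynomial.map_surjective _ hα)
  refine pcModule_of_cover hα ?_ hs'
    (pcHom_of_comp (pcHom_of_flat_fp (A := A) (B := MvPolynomial (Fin m) (MvPolynomial (Fin n) A))) h)
  exact Algebra.FinitePresentation.ker_fG_of_surjective α hα

end Hom

end Groth.Agent.FlatMor.PC
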