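import Groth.Agent.FlatMor.PC.Instances
import Groth.Agent.FlatMor.PC.Source
import Mathlib.AlgebraicGeometry.Morphisms.LocalIso
import Mathlib.AlgebraicGeometry.Morphisms.UniversallyOpen
import Mathlib.AlgebraicGeometry.Morphisms.Descent

/-!
# Pseudo-coherent / perfect morphisms: fppf locality on the source
-/

set_option autoImplicit false
universe u

open CategoryTheory Limits AlgebraicGeometry

attribute [local instance] HasDerivedCategory.standard

namespace Groth.Agent.FlatMor.PC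

theorem perfectHom_of_cover_source {A B B' : Type u} [CommRing A] [CommRing B] [CommRing B']
    [Algebra A B] [Algebra B B'] [Algebra A B'] [IsScalarTower A B B']
    [Algebra.FinitePresentation B B'] [Module.FaithfullyFlat B B']
    (h : MoreMor.IsPerfectHom A B') : MoreMor.IsPerfectHom A B :=
  ⟨pcHom_of_cover_source h.1, h.2.imp fun _ hd => hasTorDimLE_of_faithfullyFlat hd⟩

/-- A compact open mapping onto an affine open. -/
lemma exists_compact_open_image {X X' : Scheme.{u}} (a : X' ⟶ X) [Surjective a] [UniversallyOpen a]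
    (U : X.Opens) (hU : IsAffineOpen U) :
    ∃ Q : X'.Opens, IsCompact (Q : Set X') ∧ Q ≤ a ⁻¹ᵁ U ∧ ∀ x ∈ U, ∃ y ∈ Q, a y = x := by
  choose W hW hyW hWU using fun y : (a ⁻¹ᵁ U : Set X') =>
    exists_isAffineOpen_mem_and_subset (show (y : X') ∈ a ⁻¹ᵁ U from y.2)
  obtain ⟨t, ht⟩ := hU.isCompact.elim_finite_subcover (fun y => a '' (W y : Set X'))
    (fun y => a.isOpenMap _ (W y).2) fun x hx => by
      obtain ⟨y, rfl⟩ := a.surjective x
      exact Set.mem_iUnion.2 ⟨⟨y, hx⟩, y, hyW ⟨y, hx⟩, rfl⟩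
  refine ⟨⟨⋃ y ∈ t, (W y : Set X'), isOpen_biUnion fun y _ => (W y).2⟩, ?_, ?_, ?_⟩
  · exact t.isCompact_biUnion fun y _ => (hW y).isCompact
  · intro z hz
    obtain ⟨y, -, hy⟩ := Set.mem_iUnion₂.1 hz
    exact hWU y hy
  · intro x hx
    obtain ⟨y, hy, z, hz, rfl⟩ := Set.mem_iUnion₂.1 (ht hx)
    exact ⟨z, Set.mem_iUnion₂.2 ⟨y, hy, hz⟩, rfl⟩

variable {Q : ∀ (A B : Type u) [CommRing A] [CommRing B] [Algebra A B], Prop}

theorem LocalHom.mor_iff_source_cover (hQ : LocalHom Q)
    (hflat : ∀ (A B : Type u) [CommRing A] [CommRing B] [Algebra A B] [Module.Flat A B]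
      [Algebra.FinitePresentation A B], Q A B)
    (hdesc : ∀ (A B B' : Type u) [CommRing A] [CommRing B] [CommRing B'] [Algebra A B] [Algebra B B']
      [Algebra A B'] [IsScalarTower A B B'] [Algebra.FinitePresentation B B']
      [Module.FaithfullyFlat B B'], Q A B' → Q A B)
    {X X' S : Scheme.{u}} (f : X ⟶ S) (a : X' ⟶ X) [Flat a] [Surjective a]
    [LocallyOfFinitePresentation a] : Mor Q f ↔ Mor Q (a ≫ f) := by
  have := hQ.hasRingHomProperty
  constructor
  · refine fun h => hQ.mor_comp a f (fun U V hU hV e => ?_) h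
    let := (a.appLE V U e).hom.toAlgebra
    have : Module.Flat Γ(X, V) Γ(X', U) :=
      HasRingHomProperty.appLE (P := @Flat) a inferInstance ⟨V, hV⟩ ⟨U, hU⟩ e
    have : Algebra.FinitePresentation Γ(X, V) Γ(X', U) :=
      HasRingHomProperty.appLE (P := @LocallyOfFinitePresentation) a inferInstance ⟨V, hV⟩ ⟨U, hU⟩ e
    exact hflat _ _
  intro h U V hU hV e
  have : (Mor Q).ContainsIdentities :=
    HasRingHomProperty.containsIdentities (P := Mor Q) fun R _ => hQ.toRH_equiv (RingEquiv.refl R)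
  obtain ⟨O, hO, hOU, hcov⟩ := exists_compact_open_image a U hU
  have : IsAffine U.toScheme := hU
  have : IsAffine V.toScheme := hV
  have : CompactSpace O.toScheme := isCompact_iff_compactSpace.1 hO
  obtain ⟨W, p, hpS, hp, _⟩ :=
    Scheme.exists_hom_isAffine_of_isZariskiLocalAtSource @IsLocalIso O.toScheme
  have : IsLocalIso p := hp
  have : Surjective p := hpS
  have : Flat p := (IsLocalIso.le_of_isZariskiLocalAtSource @Flat) _ _ p hp
  have : LocallyOfFinitePresentation p :=
    have : MorphismProperty.ContainsIdentities @LocallyOfFinitePresentation :=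
      HasRingHomProperty.containsIdentities fun R _ => RingHom.FinitePresentation.id R
    (IsLocalIso.le_of_isZariskiLocalAtSource @LocallyOfFinitePresentation) _ _ p hp
  let q : W ⟶ U.toScheme := p ≫ a.resLE U O hOU
  have : Flat (a.resLE U O hOU) := IsZariskiLocalAtSource.resLE (P := @Flat) hOU inferInstance
  have : LocallyOfFinitePresentation (a.resLE U O hOU) :=
    IsZariskiLocalAtSource.resLE (P := @LocallyOfFinitePresentation) hOU inferInstance
  have : Surjective (a.resLE U O hOU) := ⟨fun ⟨x, hx⟩ => by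
    obtain ⟨y, hy, hxy⟩ := hcov x hx
    refine ⟨⟨y, hy⟩, U.ι.isOpenEmbedding.injective ?_⟩
    rw [← Scheme.Hom.comp_apply, Scheme.Hom.resLE_comp_ι]
    exact hxy⟩
  have h' : Mor Q (q ≫ f.resLE V U e) := by
    have h1 : Mor Q ((p ≫ O.ι) ≫ a ≫ f) :=
      hQ.mor_comp _ _ (hQ.mor_comp p O.ι ((IsLocalIso.le_of_isZariskiLocalAtSource (Mor Q)) _ _ p hp)
        (hQ.mor_of_isOpenImmersion O.ι)) h
    rw [show (p ≫ O.ι) ≫ a ≫ f = (q ≫ f.resLE V U e) ≫ V.ι by simp [q]] at h1
    refine IsZariskiLocalAtTarget.of_isPullback (P := Mor Q) (iY := V.ι) (iX := 𝟙 W) ?_ h1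
    exact IsPullback.of_isLimit' ⟨by simp⟩ (PullbackCone.IsLimit.mk _ (fun c => c.fst)
      (fun c => Category.comp_id _)
      (fun c => by rw [← cancel_mono V.ι]; simpa using c.condition)
      fun c m h1 _ => by simpa using h1)
  rw [HasRingHomProperty.iff_of_isAffine (P := Mor Q), Scheme.Hom.comp_appTop, CommRingCat.hom_comp] at h'
  have hq1 : q.appTop.hom.FinitePresentation :=
    (HasRingHomProperty.iff_of_isAffine (P := @LocallyOfFinitePresentation)).1 inferInstance
  have hq2 : q.appTop.hom.FaithfullyFlat :=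
    (Flat.flat_and_surjective_iff_faithfullyFlat_of_isAffine q).1 ⟨inferInstance, inferInstance⟩
  let := q.appTop.hom.toAlgebra
  let := (f.resLE V U e).appTop.hom.toAlgebra
  let := (q.appTop.hom.comp (f.resLE V U e).appTop.hom).toAlgebra
  have : IsScalarTower Γ(V, ⊤) Γ(U, ⊤) Γ(W, ⊤) := IsScalarTower.of_algebraMap_eq fun _ => rfl
  have : Algebra.FinitePresentation Γ(U, ⊤) Γ(W, ⊤) := hq1
  have : Module.FaithfullyFlat Γ(U, ⊤) Γ(W, ⊤) := hq2
  exact (RingHom.RespectsIso.arrow_mk_iso_iff hQ.respectsIso (arrowResLEAppIso f V U e)).1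
    (hdesc Γ(V, ⊤) Γ(U, ⊤) Γ(W, ⊤) h')

end Groth.Agent.FlatMor.PC
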